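import Cfsg.Agent.N2.Sp2.Mi
import Cfsg.Agent.N2.Cl.RAlt.Tri
import Cfsg.Agent.Lib.SolvableNormalP
import Cfsg.Agent.S0494
import Cfsg.Agent.S0496
import Cfsg.Agent.S0497

/-!
# N2 (S3519), sporadic groups: the groups of order 60, 360, 960 with elements of prime power order (helper45)
-/

set_option autoImplicit false

namespace Cfsg.Agent.N2.Sp1

open Cfsg Subgroup Cfsg.Agent.N2.Sp2 Cfsg.Agent.N2.Tg

/-- the number of the solutions of `x ^ d = 1` -/
noncomputable def nq (G : Type*) [Group G] (d : ℕ) : ℕ := Nat.card {x : G // orderOf x ∣ d}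

variable {G : Type*} [Group G] [Finite G]

theorem nq_le (K : Subgroup G) [K.Normal] {d : ℕ} (h : K.index.Coprime d) : nq G d ≤ Nat.card K :=
  Nat.card_le_card_of_injective (β := K) (fun x => ⟨x.1, by
    obtain ⟨m, hm⟩ := exists_pow_eq_self_of_coprime (h.coprime_dvd_right x.2)
    exact hm ▸ K.pow_mem (K.pow_index_mem x.1) m⟩) fun _ _ e => Subtype.ext (congrArg Subtype.val e :)

theorem normal_of_nq (P : Subgroup G) (h : nq G (Nat.card P) ≤ Nat.card P) : P.Normal := by
  have h1 := Function.Injective.bijective_of_nat_card_le (β := {x : G // orderOf x ∣ Nat.card P})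
    (f := fun x : P => ⟨x.1, P.orderOf_dvd_natCard x.2⟩) (fun _ _ e => Subtype.ext (congrArg Subtype.val e :)) h
  refine ⟨fun x hx g => ?_⟩
  obtain ⟨y, hy⟩ := h1.2 ⟨g * x * g⁻¹, by rw [ord_conj]; exact P.orderOf_dvd_natCard hx⟩
  have h3 : y.1 = g * x * g⁻¹ := congrArg Subtype.val hy
  exact h3 ▸ y.2

theorem simple_of [Nontrivial G] (hn : Nat.card G ∣ 2880) (hc : ∀ r, r.Prime → pCore r G = ⊥)
    (h5 : Nat.card G < 3 * nq G 5) (h15 : Nat.card G < 2 * nq G 15) : IsSimpleGroup G := by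
  refine ⟨fun K hK => or_iff_not_imp_left.2 fun h0 => ?_⟩
  have h1 := K.card_mul_index
  have h2 : 0 < Nat.card K := Nat.card_pos
  by_cases h3 : 5 ∣ Nat.card K
  · have h4 := nq_le K ((Nat.prime_five.coprime_iff_not_dvd.2 fun e =>
      absurd ((Nat.mul_dvd_mul h3 e).trans (h1 ▸ hn)) (by decide)).symm)
    have h6 : K.index < 3 := Nat.lt_of_mul_lt_mul_left (a := Nat.card K) (by omega)
    have h7 : K.index ≠ 0 := index_ne_zero_of_finite
    have h8 := nq_le K (d := 15) (by revert h7; interval_cases K.index <;> decide)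
    have h9 : K.index < 2 := Nat.lt_of_mul_lt_mul_left (a := Nat.card K) (by omega)
    exact index_eq_one.1 (by omega)
  · have := (nontrivial_iff_ne_bot K).2 h0
    obtain ⟨r, h4, -, h6⟩ := exists_core (G := K) Nat.prime_two Nat.prime_three (a := 6) (b := 2)
      ((Nat.prime_five.coprime_iff_not_dvd.2 h3).symm.dvd_of_dvd_mul_left (K.card_subgroup_dvd_card.trans hn))
    have := Lib.Cores.pCore_characteristic (G := K) r
    have h7 := Lib.Cores.le_pCore (N := (pCore r K).map K.subtype) inferInstance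
      ((Lib.Cores.pCore_isPGroup r).map _)
    rw [hc r h4, le_bot_iff, map_eq_bot_iff_of_injective _ K.subtype_injective] at h7
    exact absurd h7 h6

theorem core16 (hE : Ep G) (h1 : 60 ∣ Nat.card G) (hn : Nat.card G ∣ 2880) {r : ℕ} (hr : r.Prime) (h0 : pCore r G ≠ ⊥) :
    Nat.card (pCore r G) = 16 := by
  have := Fact.mk hr
  have := Lib.Cores.pCore_characteristic (G := G) r
  have hQ := Lib.Cores.pCore_isPGroup (G := G) r
  obtain ⟨j, hj⟩ := IsPGroup.iff_card.1 hQ
  have h2 : j ≠ 0 := fun e => h0 (card_eq_one.1 (by rw [hj, e, pow_zero]))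
  have h3 : r ^ j ∣ 2880 := hj ▸ (card_subgroup_dvd_card _).trans hn
  have h4 : ∀ m, m ∣ 60 → ¬ r ∣ m → m ∣ r ^ j - 1 := fun m k1 k2 => hj ▸ hE.dvd_loc hQ (k1.trans h1) k2
  have h5 : j < 12 := (Nat.pow_lt_pow_iff_right one_lt_two).1
    ((Nat.pow_le_pow_left hr.two_le j).trans_lt ((Nat.le_of_dvd (by decide) h3).trans_lt (by decide)))
  have h6 : r ∣ 2 ^ 6 * 3 ^ 2 * 5 := (dvd_pow_self r h2).trans h3
  rw [hj]
  rcases hr.dvd_mul.1 h6 with h7 | h7
  · rcases hr.dvd_mul.1 h7 with h7 | h7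
    · obtain rfl := (Nat.prime_dvd_prime_iff_eq hr Nat.prime_two).1 (hr.dvd_of_dvd_pow h7)
      have h8 := h4 15 (by decide) (by decide)
      revert h2 h3 h8
      interval_cases j <;> decide
    · obtain rfl := (Nat.prime_dvd_prime_iff_eq hr Nat.prime_three).1 (hr.dvd_of_dvd_pow h7)
      have h8 := h4 20 (by decide) (by decide)
      revert h2 h3 h8
      interval_cases j <;> decide
  · obtain rfl := (Nat.prime_dvd_prime_iff_eq hr Nat.prime_five).1 h7
    have h8 := h4 12 (by decide) (by decide)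
    revert h2 h3 h8
    interval_cases j <;> decide

/-- a generating pair with exact orders -/
def Tp (G : Type*) [Group G] (b : ℕ) : Prop :=
  ∃ x y : G, orderOf x = b ∧ orderOf y = 2 ∧ orderOf (x * y) = 5 ∧ closure ({x, y} : Set G) = ⊤

theorem tp_of [IsSimpleGroup G] (h5 : Nat.card G ≠ 5) {b : ℕ} (hb : b = 3 ∨ b = 4) (h : Tri G 2 b 5) : Tp G b := by
  obtain ⟨y, x, h1, h2, h3, h4⟩ := h
  have h6 : orderOf (x * y) = 5 := by rw [← h3, ← ord_conj (y * x) x, mul_assoc, mul_assoc, mul_inv_cancel, mul_one]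
  have h7 : y ≠ 1 := fun e => by
    rw [e, one_mul] at h3
    have := h3 ▸ orderOf_dvd_of_pow_eq_one h2
    omega
  have h8 : ¬ x ^ 2 = 1 := fun e => by
    have k1 : x⁻¹ = x := inv_eq_of_mul_eq_one_left (by rw [← pow_two, e])
    have k2 : y⁻¹ = y := inv_eq_of_mul_eq_one_left (by rw [← pow_two, h1])
    have k3 : (zpowers (x * y)).Normal := by
      rw [← normalizer_eq_top_iff, eq_top_iff, ← h4, closure_le]
      have k4 : ∀ g : G, g * (x * y) * g⁻¹ = (x * y)⁻¹ → g ∈ normalizer (zpowers (x * y) : Set G) := fun g hg =>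
        mem_normalizer_fintype fun _ ⟨k, hk⟩ => by
          rw [← hk, ← conj_zpow, hg]
          exact zpow_mem (inv_mem (mem_zpowers _)) k
      rintro _ (rfl | rfl)
      · exact k4 _ (by rw [mul_inv_rev, k1, mul_assoc, mul_assoc, mul_inv_cancel, mul_one, k2])
      · exact k4 _ (by rw [mul_inv_rev, ← mul_assoc, ← k2, ← k1, inv_inv, inv_inv, ← k1, inv_inv, ← pow_two, e, one_mul, k1, k2])
    rcases k3.eq_bot_or_eq_top with k4 | k4
    · rw [zpowers_eq_bot.1 k4, orderOf_one] at h6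
      omega
    · exact h5 (by rw [← card_top, ← k4, Nat.card_zpowers, h6])
  refine ⟨x, y, ?_, orderOf_eq_prime h1 h7, h6, by rw [Set.pair_comm, h4]⟩
  rcases hb with rfl | rfl
  · exact orderOf_eq_prime h2 fun e => h8 (by rw [e, one_pow])
  · exact orderOf_eq_prime_pow (p := 2) (n := 1) h8 h2

/-- **the three orders** -/
theorem three (hE : Ep G) (hn : Nat.card G ∈ [60, 360, 960]) (h5 : Nat.card G < 3 * nq G 5)
    (h15 : Nat.card G < 2 * nq G 15) :
    (center G = ⊥ ∧ Nat.card G ≠ 960 ∧ Tp G (if Nat.card G = 60 then 3 else 4)) ∨ (Nat.card G = 960 ∧ ∃ B : Subgroup G, Nat.card B = 80) := by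
  simp only [List.mem_cons, List.not_mem_nil, or_false] at hn
  have h1 : 60 ∣ Nat.card G ∧ Nat.card G ∣ 2880 := by rcases hn with e | e | e <;> rw [e] <;> decide
  by_cases hc : ∀ r, r.Prime → pCore r G = ⊥
  · have : Nontrivial G := Finite.one_lt_card_iff_nontrivial.1 (by omega)
    have := simple_of h1.2 hc h5 h15
    have h2 : ¬ IsMulCommutative G := Classification.SimpleIndex.not_comm_of_not_prime fun e => by
      have := e.eq_one_or_self_of_dvd 2 (Nat.dvd_trans (by decide) h1.1)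
      omega
    refine .inl ⟨(inferInstance : (center G).Normal).eq_bot_or_eq_top.resolve_right fun e =>
      h2 ⟨⟨fun a b => mem_center_iff.1 (e.ge (mem_top b)) a⟩⟩, ?_⟩
    rcases hn with e | e | e
    · obtain ⟨f⟩ := S0494.result e
      rw [if_pos e]
      exact ⟨by omega, tp_of (by omega) (.inl rfl) (N2C.RAlt.tri_5_2_3_5.congr f.symm)⟩
    · obtain ⟨f⟩ := S0497.result e
      rw [if_neg (by omega : ¬ Nat.card G = 60)]
      exact ⟨by omega, tp_of (by omega) (.inr rfl) (N2C.RAlt.tri_6_2_4_5.congr f.symm)⟩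
    · have := S0496.result h2 (by omega)
      omega
  · push Not at hc
    obtain ⟨r, hr, h0⟩ := hc
    have h2 := core16 hE h1.1 h1.2 hr h0
    have h3 := (pCore r G).card_mul_index
    rw [h2] at h3
    have h4 : Nat.card G = 960 := by omega
    have := Lib.Cores.pCore_characteristic (G := G) r
    have := Fact.mk Nat.prime_five
    obtain ⟨g, hg⟩ := exists_prime_orderOf_dvd_card' (G := G ⧸ pCore r G) 5 (by rw [← index_eq_card]; omega)
    exact .inr ⟨h4, _, by rw [Lib.SolvableNormalP.card_comap_mk _ (zpowers g), Nat.card_zpowers, hg, h2]⟩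

end Cfsg.Agent.N2.Sp1
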