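import Cfsg.Agent.N2.Sp1.Sieve
import Cfsg.Agent.N2.Sp1.Grp
import Cfsg.Agent.N2.Sp2.Chk
import Cfsg.Agent.N2.SpK.Mul

/-!
# N2 (S3519), sporadic groups: the end game for the vectors of the exact sieve (helper45)

* `no_tri` : a pair with trivial centraliser needs a large structure constant;
* `fin_spec` : the check `fin` fails for the vector of a maximal invariant subgroup which is not good.
-/

set_option autoImplicit false
set_option linter.unusedSectionVars false

namespace Cfsg.Agent.N2.Sp1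

open Cfsg Cfsg.Agent.FP3 Cfsg.Agent.TAB Cfsg.Agent.TAB.Eng Cfsg.Agent.TAB.Use Cfsg.Agent.SB.SporL Cfsg.Agent.TH.Spor
open Cfsg.Agent.N2.Sp Cfsg.Agent.N2.Sp2 Cfsg.Agent.TwoF.SpO
open Subgroup

variable {K : Type} [Group K] [Finite K] {D : Dat} {T : TD K D} {R : Rows} {ν v : List ℕ} {A : Subgroup K}

/-! ### structure constants -/

theorem one_inv (hm : T.Mass) (hU : Unif T) {y : K} (hy : orderOf y = 2) : One T (T.ty y) := by
  refine ⟨y, rfl, ?_⟩
  rw [← hm.2 _ (T.lt y), ← card_class y]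
  refine Nat.mul_le_mul_right _ (Nat.card_le_card_of_injective (β := {g // IsConj y g}) (fun g => ⟨g.1, ?_⟩)
    fun _ _ e => Subtype.ext (congrArg Subtype.val e :))
  obtain ⟨k, hk⟩ := hU y g (hy ▸ Nat.prime_two) g.2.symm
  rw [← pow_mod_orderOf, hy] at hk
  rcases Nat.mod_two_eq_zero_or_one k with e | e <;> rw [e] at hk
  · have h1 := T.ord g
    rw [g.2, ← T.ord, hy, isConj_one_right.1 (pow_zero y ▸ hk :), orderOf_one] at h1
    omega
  · rwa [pow_one] at hk

theorem le_cnt (hm : T.Mass) (x : K) : D.N ≤ D.cnt (T.ty x) * Nat.card (centralizer ({x} : Set K)) := by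
  rw [← hm.1, ← hm.2 _ (T.lt x), ← card_class x]
  exact Nat.mul_le_mul_right _ (Nat.card_le_card_of_injective (β := {g // T.ty g = T.ty x})
    (fun g => ⟨g.1, TD.ty_isConj g.2⟩) fun _ _ e => Subtype.ext (congrArg Subtype.val e :))

/-- the structure constant of the types is less than one -/
noncomputable def okTri (D : Dat) (W W' : List (List ℤ)) (a b s : ℕ) : Bool :=
  frcLZ (SpK.cz D W W' [] (1, [(1, s)])) fun z => frcLZ (accP z (W ++ W') (List.replicate D.n 0)) fun V =>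
    allL (fun u => decide (0 ≤ nth V u)) (List.range D.n) &&
      decide (sumP a b z (W ++ W') * (D.cnt a * D.cnt b : ℕ) < nth V s * D.N)

theorem no_tri (hm : T.Mass) (hR : Tab T R) (hU : Unif T) (hT : SpK.okT D R = true) {x y : K} (hy : orderOf y = 2)
    (hc : ∀ g, g ∈ centralizer ({x} : Set K) → g ∈ centralizer ({y} : Set K) → g = 1) :
    okTri D (irows R) (SpK.prows R) (T.ty x) (T.ty y) (T.ty (x * y)) ≠ true := by
  classical
  intro h
  have := Fintype.ofFinite K
  rw [okTri, frcLZ_eq, frcLZ_eq, Bool.and_eq_true, decide_eq_true_eq] at h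
  have H := SpK.rw_of hm hR hT
  generalize SpK.cz D (irows R) (SpK.prows R) [] (1, [(1, T.ty (x * y))]) = z at h
  have h3 := SpK.sum_accP' x y z _ (List.replicate D.n 0) (List.forall_mem_append.2 ⟨H.a y, H.b y (one_inv hm hU hy)⟩)
    List.length_replicate
  have h5 : ∑ a, nth (List.replicate D.n 0) (T.ty (a * x * a⁻¹ * y)) = 0 :=
    Finset.sum_eq_zero fun a _ => by
      rw [nth_eq, List.getD_eq_getElem _ _ (by rw [List.length_replicate]; exact T.lt _), List.getElem_replicate]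
  generalize accP z (irows R ++ SpK.prows R) (List.replicate D.n 0) = V at h h3
  generalize sumP (T.ty x) (T.ty y) z (irows R ++ SpK.prows R) = σ at h h3
  have h0 : ∀ g, 0 ≤ nth V (T.ty g) := fun g => of_decide_eq_true (allL_spec h.1 _ (List.mem_range.2 (T.lt g)))
  let f : centralizer ({y} : Set K) × centralizer ({x} : Set K) → K := fun p => p.1 * p.2
  have h6 : Function.Injective f := by
    rintro ⟨d, c⟩ ⟨d', c'⟩ (e : (d : K) * c = d' * c')
    have h7 : (d' : K)⁻¹ * d = c' * (c : K)⁻¹ := by rw [eq_mul_inv_iff_mul_eq, mul_assoc, e, inv_mul_cancel_left]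
    have h8 := hc _ (h7 ▸ mul_mem c'.2 (inv_mem c.2)) (mul_mem (inv_mem d'.2) d.2)
    exact Prod.ext (Subtype.ext (inv_mul_eq_one.1 h8).symm) (Subtype.ext (mul_inv_eq_one.1 (h7 ▸ h8)).symm)
  have h7 : ∑ a ∈ Finset.univ.image f, nth V (T.ty (a * x * a⁻¹ * y)) ≤ ∑ a, nth V (T.ty (a * x * a⁻¹ * y)) :=
    Finset.sum_le_sum_of_subset_of_nonneg (Finset.subset_univ _) fun a _ _ => h0 _
  rw [Finset.sum_image fun a _ b _ e => h6 e, Finset.sum_congr rfl (g := fun _ => nth V (T.ty (x * y))) fun p _ => by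
    rw [← T.conj (x * y) p.1]
    congr 2
    show (p.1 : K) * p.2 * x * ((p.1 : K) * p.2)⁻¹ * y = _
    rw [mul_assoc _ _ x, mem_centralizer_singleton_iff.1 p.2.2, mul_inv_rev, mul_assoc, mul_assoc, mul_assoc, mul_assoc,
      mul_inv_cancel_left, mem_centralizer_singleton_iff.1 (inv_mem p.1.2), mul_assoc, mul_assoc],
    Finset.sum_const, Finset.card_univ, ← Nat.card_eq_fintype_card, Nat.card_prod, h3, h5, zero_add, hm.1,
    nsmul_eq_mul] at h7
  have h8 : ((D.N * D.N : ℕ) : ℤ) ≤ _ := Int.ofNat_le.2 (Nat.mul_le_mul (le_cnt hm x) (le_cnt hm y))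
  have h9 : (0 : ℤ) < D.N := Int.natCast_pos.2 (hm.1 ▸ Nat.card_pos)
  have h10 := mul_le_mul_of_nonneg_left h8 (h0 (x * y))
  have h11 := mul_le_mul_of_nonneg_left h7 (Int.natCast_nonneg (D.cnt (T.ty x) * D.cnt (T.ty y)))
  have h12 := mul_lt_mul_of_pos_left h.2 h9
  push_cast at h10 h11 h12
  linarith

/-! ### the numbers read off the vector -/

/-- the number of the solutions of `x ^ d = 1` -/
noncomputable def cv (D : Dat) (v : List ℕ) (d : ℕ) : ℕ :=
  ((List.range D.n).map fun t => if D.ord t ∣ d then ntd v 0 t else 0).sum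

/-- the types which occur -/
noncomputable def supp (D : Dat) (v : List ℕ) : List ℕ := (List.range D.n).filter fun t => t != 0 && ntd v 0 t != 0

theorem Vec.nq (h : Vec T A v) (d : ℕ) : nq A d = cv D v d := by
  rw [cv, ← List.sum_toFinset _ List.nodup_range, List.toFinset_range,
    ← Finset.sum_congr rfl fun t ht => if_congr Iff.rfl (h t (Finset.mem_range.1 ht)) rfl, sum_ite A fun t => D.ord t ∣ d]
  exact Nat.card_congr (Equiv.subtypeEquivRight fun x => by rw [← T.ord, orderOf_coe])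

theorem Vec.card (h : Vec T A v) : Nat.card A = cv D v 0 :=
  (Nat.card_congr (Equiv.subtypeUnivEquiv fun _ => dvd_zero _).symm).trans (h.nq 0)

theorem Vec.sup (h : Vec T A v) : Sup T A (supp D v) := fun a ha => or_iff_not_imp_left.2 fun e =>
  List.mem_filter.2 ⟨List.mem_range.2 (T.lt a), by simp [e, ← h _ (T.lt a), (num_pos ha).ne']⟩

theorem two_dvd_num (A : Subgroup K) {t : ℕ} (h : 2 < D.ord t) : 2 ∣ num T A t := by
  classical
  have h1 : ∀ g, T.ty g⁻¹ = T.ty g := fun g => by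
    have h2 : g⁻¹ = g ^ (orderOf g - 1) := (eq_inv_of_mul_eq_one_left (by
      rw [← pow_succ, Nat.sub_add_cancel (orderOf_pos g), pow_orderOf_eq_one])).symm
    refine Eq.trans ?_ (congrArg T.ty (pow_one g))
    rw [h2, T.pow, T.pow, Dat.pwf, Dat.pwf, ← T.ord, Nat.gcd_one_left,
      (Nat.coprime_self_sub_left (orderOf_pos g)).2 (Nat.coprime_one_left _)]
  have := Fintype.ofFinite {s : A // T.ty s = t}
  have := Fact.mk Nat.prime_two
  let f : Function.End {s : A // T.ty s = t} := fun s => ⟨s.1⁻¹, (h1 _).trans s.2⟩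
  have h2 := Equiv.Perm.card_fixedPoints_modEq (f := f) (p := 2) (n := 1) (funext fun s => Subtype.ext (inv_inv s.1))
  rw [Fintype.card_eq_zero_iff (α := f.fixedPoints).2 ⟨fun s => ?_⟩, ← Nat.card_eq_fintype_card] at h2
  · exact (Nat.modEq_zero_iff_dvd).1 h2
  · have h3 : s.1.1⁻¹ = s.1.1 := congrArg Subtype.val s.2
    have h4 := Nat.le_of_dvd two_pos (orderOf_dvd_of_pow_eq_one (x := s.1.1) (by rw [pow_two, mul_eq_one_iff_eq_inv, h3]))
    rw [← orderOf_coe, T.ord, s.1.2] at h4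
    omega

/-! ### the check -/

/-- the list of the primes -/
def okPL (D : Dat) (PL : List (ℕ × ℕ)) : Bool :=
  PL.all (fun y => decide y.1.Prime && D.N % y.1 ^ y.2 == 0 && D.N / y.1 ^ y.2 % y.1 != 0) &&
    decide (PL.map Prod.fst).Nodup

/-- the orders 60, 360, 960 -/
noncomputable def res (D : Dat) (R : Rows) (c : List ℕ × List ℕ × List (List (ℕ × ℕ))) (v S : List ℕ) (n : ℕ) : Bool :=
  [60, 360, 960].contains n && Nat.blt n (3 * cv D v 5) && Nat.blt n (2 * cv D v 15) &&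
    (n != 960 || (S.all (fun t => 80 % D.ord t != 0 || c.1.contains t) && chkS D R [] 80 c.1 c.2.1 c.2.2)) &&
    SpK.okT D R && Glue.frcM (irows R) fun W => Glue.frcM (SpK.prows R) fun W' =>
      S.all fun a => D.ord a != (if n = 60 then 3 else 4) || S.all fun b => D.ord b != 2 || S.all fun s =>
        D.ord s != 5 || n == 960 || okTri D W W' a b s

/-- the check for one vector -/
noncomputable def fin (D : Dat) (R : Rows) (ν : List ℕ) (PL : List (ℕ × ℕ)) (c : List ℕ × List ℕ × List (List (ℕ × ℕ)))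
    (v : List ℕ) : Bool :=
  frc (cv D v 0) fun n => frcL (supp D v) fun S =>
    (PL.any fun y => frc (Nat.gcd n (y.1 ^ y.2)) fun q =>
      q != 1 && q != y.1 ^ y.2 && n / q % y.1 != 0 && Nat.ble (cv D v q) q) ||
    (S.any fun t => Nat.blt 2 (D.ord t) && ntd v 0 t % 2 != 0) ||
    (S.all (fun t => Nat.blt 0 (ntd ν 0 t) && PL.any fun y => y.1 ^ y.2 % D.ord t == 0) &&
      mkD n PL fun L => kill D ν S n L || res D R c v S n)

variable [IsSimpleGroup K] {Γ : Subgroup (MulAut K)} {c : List ℕ × List ℕ × List (List (ℕ × ℕ))}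

theorem res_spec (C : Cx T R ν A Γ (supp D v)) (hv : Vec T A v) : res D R c v (supp D v) (Nat.card A) ≠ true := by
  intro h
  simp only [res, Glue.frcM_eq, Bool.and_eq_true, Bool.or_eq_true, List.contains_iff_mem, Nat.blt_eq, List.all_eq_true,
    bne_iff_ne, beq_iff_eq, ← hv.nq] at h
  obtain ⟨⟨⟨⟨⟨h1, h2⟩, h3⟩, h4⟩, h5⟩, h6⟩ := h
  rcases three C.ep h1 h2 h3 with ⟨h7, k0, x, y, k1, k2, k3, k4⟩ | ⟨h7, B, hB⟩
  · have h8 : ∀ z : A, orderOf z ≠ 1 → T.ty z ∈ supp D v := fun z hz =>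
      C.mem z.2 fun e => hz (by rw [← orderOf_coe, e, orderOf_one])
    have h9 : ∀ z : A, D.ord (T.ty z) = orderOf z := fun z => by rw [← T.ord, orderOf_coe]
    have h10 := ((((h6 _ (h8 x (by rw [k1]; split_ifs <;> decide))).resolve_left fun e => e ((h9 x).trans k1)) _
      (h8 y (by omega))).resolve_left fun e => e ((h9 y).trans k2)) _ (h8 (x * y) (by omega))
    refine no_tri C.hy.mass C.hy.tab C.unif h5 ((orderOf_coe y).trans k2) (x := x) (fun g g1 g2 => ?_)
      (h10.resolve_left fun e => e.elim (fun e => e ((h9 _).trans k3)) k0)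
    have h11 : ∀ z : A, z ∈ (centralizer {g}).comap A.subtype := fun z => (k4.ge.trans ((closure_le _).2 (by
      rintro _ (rfl | rfl)
      exacts [mem_centralizer_singleton_iff.2 (mem_centralizer_singleton_iff.1 g1).symm,
        mem_centralizer_singleton_iff.2 (mem_centralizer_singleton_iff.1 g2).symm]))) (mem_top z)
    have h12 : g ∈ A := (mi_self C.mi).le (centralizer_le_normalizer _ (mem_centralizer_iff.2 fun z hz =>
      mem_centralizer_singleton_iff.1 (h11 ⟨z, hz⟩)))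
    exact congrArg Subtype.val (mem_bot.1 (h7.le (mem_center_iff.2 fun z =>
      Subtype.ext (mem_centralizer_singleton_iff.1 (h11 z)) : (⟨g, h12⟩ : A) ∈ center A)))
  · have h8 := (h4.resolve_left fun e => e h7)
    obtain ⟨w, hw, -⟩ := sub (A := B.map A.subtype) C.hy (fun a ha => (C.sup a (map_subtype_le B ha)).imp id fun e =>
      (h8.1 _ e).resolve_left fun k => k (by
        rw [← T.ord, ← hB, ← card_map_of_injective A.subtype_injective]
        exact Nat.mod_eq_zero_of_dvd (orderOf_dvd_natCard _ ha)))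
      ((card_map_of_injective A.subtype_injective).trans hB) h8.2
    cases hw

/-- **the end game** -/
theorem fin_spec (H : Sp.Hy T R ν) (hU : Unif T) (hn : ¬ IsMulCommutative K) (ho : (Inn K).index ≤ 2) (hm : MI A Γ)
    (hb : ¬ Good A) (hv : Vec T A v) {PL : List (ℕ × ℕ)} (hP : okPL D PL = true) : fin D R ν PL c v ≠ true := by
  intro h
  simp only [okPL, Bool.and_eq_true, beq_iff_eq, bne_iff_ne, List.all_eq_true, decide_eq_true_eq] at hP
  have h1 : ∀ y ∈ PL, y.1.Prime ∧ ∃ u, D.N = y.1 ^ y.2 * u ∧ ¬ y.1 ∣ u := fun y hy => ⟨(hP.1 y hy).1.1, _,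
    (Nat.mul_div_cancel' (Nat.dvd_of_mod_eq_zero (hP.1 y hy).1.2)).symm, fun k => (hP.1 y hy).2 (Nat.mod_eq_zero_of_dvd k)⟩
  simp only [fin, frc_eq, frcL_eq, ← hv.card, ← hv.nq, Bool.or_eq_true, Bool.and_eq_true, List.any_eq_true,
    List.all_eq_true, beq_iff_eq, bne_iff_ne, Nat.blt_eq, Nat.ble_eq] at h
  rcases h with (⟨y, h2, ⟨⟨h3, h4⟩, h5⟩, h6⟩ | ⟨t, h2, h3, h4⟩) | ⟨h2, h3⟩
  · obtain ⟨h7, u, h8, h9⟩ := h1 y h2
    have := Fact.mk h7
    obtain ⟨a, -, e⟩ := (Nat.dvd_prime_pow h7).1 (Nat.gcd_dvd_right (Nat.card A) (y.1 ^ y.2))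
    have h10 := (Nat.mul_div_cancel' (Nat.gcd_dvd_left (Nat.card A) (y.1 ^ y.2))).symm
    have h11 : ¬ _ ∣ _ := fun k => h5 (Nat.mod_eq_zero_of_dvd k)
    rw [e] at h3 h4 h6 h10 h11
    obtain ⟨P⟩ : Nonempty (Sylow y.1 A) := inferInstance
    obtain ⟨Q⟩ : Nonempty (Sylow y.1 K) := inferInstance
    have := normal_of_nq (P : Subgroup A) (by rwa [card_syl P h10 h11])
    have h12 := not_dvd_of_norm P (norm_of_normal hm P (h10 ▸ (dvd_pow_self _ fun k => h3 (by rw [k, pow_zero])).mul_right _))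
    exact h4 ((card_syl Q (by rw [← A.card_mul_index, ← mul_assoc, ← h10]) fun k => (h7.dvd_mul.1 k).elim h11 h12).symm.trans
      (card_syl Q (H.mass.1.trans h8) h9))
  · exact h4 (hv t (List.mem_range.1 (List.mem_filter.1 h2).1) ▸ Nat.mod_eq_zero_of_dvd (two_dvd_num A h3))
  · obtain ⟨L, h4, h5, h6⟩ := mkD_spec (D := D) PL h1 h3
    have C : Cx T R ν A Γ (supp D v) := ⟨H, hU, hn, ho, hm, hb, fun a p q hp hq k1 k2 => by
      rw [← orderOf_coe] at k1 k2
      obtain ⟨y, k3, k4⟩ := (h2 _ ((hv.sup a a.2).resolve_left fun k => ne_one_of hp k1 ((H.zero a).1 k))).2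
      have k5 := T.ord a ▸ Nat.dvd_of_mod_eq_zero k4
      rw [(Nat.prime_dvd_prime_iff_eq hp (h1 y k3).1).1 (hp.dvd_of_dvd_pow (k1.trans k5)),
        (Nat.prime_dvd_prime_iff_eq hq (h1 y k3).1).1 (hq.dvd_of_dvd_pow (k2.trans k5))], hv.sup, fun t ht => (h2 t ht).1⟩
    rcases Bool.or_eq_true _ _ ▸ h4 with h7 | h7
    · refine C.kill h5 ?_ h7
      have h8 := hP.2
      rwa [← h6, List.map_map] at h8
    · exact res_spec C hv h7

/-- **the assembly** -/
theorem row_of {M PL : List (ℕ × ℕ)} {SOL : List (List ℕ)} (hn : ¬ IsMulCommutative K) (ho : (Inn K).index ≤ 2)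
    (h : SpK.InK K D R M) (hz : Sp.okZ D = true) (hk : okK D M ν = true)
    (hr : ∀ {T : TD K D} {A : Subgroup K}, Sp.Hy T R ν → ¬ Good A → A ≠ ⊤ → A ≠ ⊥ → ∃ v ∈ SOL, Vec T A v)
    (hP : okPL D PL = true) (hc : allL (fin D R ν PL c) SOL = true) : ASRow K := fun _ _ hm => by_contra fun hb => by
  obtain ⟨T, H, hU, -⟩ := hy_of h hz hk
  obtain ⟨v, h1, h2⟩ := hr H hb hm.ne_top hm.ne_bot
  exact fin_spec H hU hn ho hm hb h2 hP (allL_spec hc v h1)

end Cfsg.Agent.N2.Sp1
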