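import Cfsg.Agent.N2.Sp1.OddQ
import Cfsg.Agent.N2.Sp.GCo1
import Cfsg.Agent.H956.Co1P.Main
import Cfsg.Agent.H898.RowCo0
import Cfsg.Agent.PreUniqCo.Rows
import Cfsg.Agent.S2069

/-!
# S3519: the odd local subgroups of `Co1` (helper45)
-/

set_option autoImplicit false
set_option maxRecDepth 100000

namespace Cfsg.Agent.N2.Sp1

open Subgroup Cfsg Cfsg.Agent.FP3 Cfsg.Agent.SB Cfsg.Agent.N2.Sp Cfsg.Agent.N2.Sp2 Cfsg.Agent.N2.Sp4T Cfsg.Agent.N2.Sp4
open Cfsg.Agent.TAB.Eng Cfsg.Agent.TAB.Use Cfsg.Agent.SB.SporL Cfsg.Agent.TH.Spor Cfsg.Agent.N2.Sp1.Od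

namespace OCo1

open Cfsg.Agent.N2.Sp.Co1

open Cfsg.Agent.PreUniqCo in
/-- four subgroups of order three without fixed vectors -/
theorem no_pure [Finite Spor.Co1] {a b : Spor.Co1} (hab : Commute a b)
    (h : ∀ x ∈ [a, b, a * b, a * b ^ 2], orderOf x = 3 ∧ 11 ∣ cn x) : False := by
  have : Fact (Nat.Prime 3) := ⟨Nat.prime_three⟩
  have key : ∀ g : Co0, g ^ 3 = 1 → (QuotientGroup.mk g : Spor.Co1) ∈ [a, b, a * b, a * b ^ 2] →
      Module.finrank ℚ (SigZeroCo2.Rank.fix (SigZeroCo2.Lin.rep g)) = 0 := fun g h3 hg => by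
    obtain ⟨k1, k2⟩ := h _ hg
    obtain ⟨y, hy, oy⟩ := exists_of_dvd (by norm_num) k2
    obtain ⟨y, rfl, oy'⟩ := Rows.exists_lift y (by decide) oy
    exact H898.RowCo0.three_eleven (orderOf_eq_prime h3 fun e => by
      rw [e, QuotientGroup.mk_one, orderOf_one] at k1
      cases k1) oy' (Rows.commute_lift (by decide) oy' (mem_centralizer_singleton_iff.1 hy).symm)
  obtain ⟨g, rfl, og⟩ := Rows.exists_lift a (by decide) (h a (by simp)).1
  obtain ⟨k, rfl, ok⟩ := Rows.exists_lift b (by decide) (h b (by simp)).1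
  have h1 := Rows.commute_lift (by decide) ok hab
  have g3 : g ^ 3 = 1 := og ▸ pow_orderOf_eq_one g
  have k3 : k ^ 3 = 1 := ok ▸ pow_orderOf_eq_one k
  have h2 := key (g * k) (by rw [h1.mul_pow, g3, k3, one_mul]) (by simp)
  have h3 := key (g * k ^ 2) (by rw [(h1.pow_right 2).mul_pow, g3, pow_right_comm, k3, one_pow, one_mul]) (by simp)
  rw [map_mul] at h2 h3
  rw [map_pow] at h3
  have h4 := Rat.sum_fix (H898.RowCo0.rep_pow_one og) (H898.RowCo0.rep_pow_one ok) (H898.RowCo0.rep_commute h1)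
  rw [key g g3 (by simp), key k k3 (by simp), h2, h3, H898.RowCo0.finrank_Sp] at h4
  omega

variable {K : Type} [Group K] [Finite K] {T : TD K D} {A : Subgroup K} {Γ : Subgroup (MulAut K)}

theorem idx : okIdx R = true := by decide +kernel

theorem nine (H : Sp.Hy T R nu) (hS : Sup T A S) {a : K} (ha : a ∈ A) {p k : ℕ} (hp : p.Prime) (h2 : p ≠ 2)
    (h : a ^ p ^ k = 1) : a ^ p = 1 := by
  obtain ⟨j, -, e⟩ := (Nat.dvd_prime_pow hp).1 (orderOf_dvd_of_pow_eq_one h)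
  have h1 := ord_of H hS (P := fun n => n ≤ 15 ∧ n ≠ 9) (by decide) (by decide +kernel) ha
  refine orderOf_dvd_iff_pow_eq_one.1 (e ▸ ?_)
  match j with
  | 0 => exact one_dvd _
  | 1 => rw [pow_one]
  | j + 2 =>
    have h3 : p ^ 2 ≤ 15 := (Nat.pow_le_pow_right hp.pos (by omega)).trans (e ▸ h1.1)
    obtain rfl : p = 3 := by
      have := hp.two_le
      nlinarith [Nat.lt_of_le_of_ne this h2.symm]
    rw [e, pow_add] at h1
    rcases j with _ | j
    · exact absurd rfl h1.2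
    · rw [pow_succ] at h1
      have := Nat.one_le_pow j 3 (by decide)
      omega

theorem ord_p (H : Sp.Hy T R nu) (hS : Sup T A S) {Y : Subgroup K} (hY : Y ≤ A) {p : ℕ} (hp : p.Prime) (h2 : p ≠ 2)
    (h : IsPGroup p Y) {y : K} (hy : y ∈ Y) (h1 : y ≠ 1) : orderOf y = p := by
  have := Fact.mk hp
  obtain ⟨k, hk⟩ := h ⟨y, hy⟩
  exact orderOf_eq_prime (nine H hS (hY hy) hp h2 (congrArg Subtype.val hk)) h1

theorem pg5 (H : Sp.Hy T R nu) (hS : Sup T A S) {u : K} (hu : u ∈ A) (ou : orderOf u = 5) (tu : T.ty u ≠ 14)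
    {C : Subgroup K} (hC : C ≤ A) (hc : ∀ c ∈ C, c * u = u * c) : Nat.card C ≤ 625 := by
  refine Nat.le_of_dvd (by decide) (pg_le (a := 4) (m := D.N / 625) Nat.prime_five (pgrp_of fun c h1 r hr hd => ?_)
    ((card_subgroup_dvd_card C).trans (by rw [H.mass.1]; decide +kernel)) (by decide +kernel))
  obtain ⟨k, hk⟩ : ∃ k, orderOf (c ^ k) = r := ⟨_, orderOf_pow_orderOf_div (orderOf_pos c).ne' hd⟩
  have h2 : Commute u (c ^ k) := Commute.pow_right (hc c h1).symm k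
  by_contra h3
  obtain ⟨h4, h5⟩ := mem_of' H hS (mul_mem hu (pow_mem (hC h1) k))
    (ord_mul h2 ou hk ((Nat.coprime_primes Nat.prime_five hr).2 (Ne.symm h3))) (by have := hr.two_le; omega)
  obtain ⟨h6, h7⟩ := (by decide +kernel : ∀ s ∈ S, 5 ∣ D.ord s → D.ord s ≠ 5 → D.ord s / 5 ∣ 6 ∧ D.pwf s 6 = 14) _ h4
    (h5 ▸ dvd_mul_right _ _) (by have := hr.two_le; omega)
  rw [h5, Nat.mul_div_cancel_left _ (by decide), ← hk] at h6
  rw [← T.pow, h2.mul_pow, orderOf_dvd_iff_pow_eq_one.1 h6, mul_one, pow_succ, ← ou, pow_orderOf_eq_one, one_mul] at h7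
  exact tu h7

variable [IsSimpleGroup K]

theorem cent3 (hK : Spor.IsoCo1 K) (H : Sp.Hy T R nu) (hu : Unif T) (h : MI A Γ) (hS : Sup T A S) (h3 : pCore 3 A ≠ ⊥)
    (h2 : pCore 2 A = ⊥) {z : K} (hz : ∀ u ∈ Mon.core 3 A, z * u = u * z) : z ∈ Mon.core 3 A := by
  by_contra hz'
  refine core_other (Or.inr ⟨rfl, rfl⟩) (cent_core_le h h3) (fun r hr hd => by_contra fun h4 => ?_) hz hz'
    (by rw [Mon.core, h2, Subgroup.map_bot])
  obtain ⟨f, hf, of⟩ := exists_of_dvd hr hd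
  have hA : Mon.core 3 A ≤ A := map_subtype_le _
  have o3 := fun {y : K} => ord_p H hS hA Nat.prime_three (by decide) (Mon.core_pgroup 3) (y := y)
  have h5 : ∀ e ∈ Mon.core 3 A, e ≠ 1 → T.ty e = 4 := fun e he e1 => by
    have k1 : Commute e f := mem_centralizer_iff.1 hf e he
    obtain ⟨k2, k3⟩ := mem_of' H hS (mul_mem (hA he) (cent_core_le h h3 hf)) (ord_mul k1 (o3 he e1) of
      ((Nat.coprime_primes Nat.prime_three hr).2 fun k => h4 (Or.inr k.symm))) (by have := hr.two_le; omega)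
    obtain ⟨k4, k5⟩ := (by decide +kernel : ∀ s ∈ S, 3 ∣ D.ord s → D.ord s ≠ 3 → D.ord s ≠ 6 → D.ord s ≠ 12 →
      D.ord s = 15 ∧ D.pwf s 10 = 4) _ k2 (k3 ▸ dvd_mul_right _ _) (by have := hr.two_le; omega) (by omega)
      fun k => absurd ((show r = 4 by omega) ▸ hr) (by decide)
    rwa [← T.pow, k1.mul_pow, pow_succ e, pow_mul e 3 3, pow_mul f 5 2, ← o3 he e1, pow_orderOf_eq_one,
      ← show orderOf f = 5 by omega, pow_orderOf_eq_one, one_pow, one_pow, one_mul, mul_one] at k5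
  obtain ⟨a, ha, oa⟩ := exists_ord Nat.prime_three (Mon.core_pgroup (S := A) 3) (core_ne h3)
  have a1 : a ≠ 1 := fun e => by rw [e, orderOf_one] at oa; cases oa
  by_cases h6 : ∀ b ∈ Mon.core 3 A, b ∈ zpowers a
  · obtain ⟨x, hx, ox⟩ := cyc H.mass hu h Nat.prime_three ha oa ((card_le_of_le h6).trans (by rw [Nat.card_zpowers, oa]))
      (r := 11) (k := 1) (by norm_num) (by decide) (by decide +kernel) (by rw [h5 a ha a1]; decide +kernel)
    exact ord_of H hS (P := fun n => n ≠ 3 * 11) (by decide) (by decide +kernel) hx ox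
  push Not at h6
  obtain ⟨b, hb, h6⟩ := h6
  have h7 := comm_of_card Nat.prime_three (Mon.core_pgroup (S := A) 3) (fun k => absurd (k.trans (card_dvd' H idx (-78) [(1, 1)]
    (d := 198) (fun y hy y1 => by rw [h5 y hy y1]; decide +kernel) (by decide +kernel))) (by decide)) a ha b hb
  have b1 : b ≠ 1 := fun e => h6 (e ▸ one_mem _)
  obtain ⟨e⟩ := hK
  have := Finite.of_equiv _ e.toEquiv
  have h8 : ∀ x ∈ Mon.core 3 A, x ≠ 1 → orderOf (e x) = 3 ∧ 11 ∣ cn (e x) := fun x hx x1 =>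
    ⟨(e.orderOf_eq x).trans (o3 hx x1), cn_congr e x ▸ dvd_cn H.mass hu (o3 hx x1 ▸ Nat.prime_three) (k := 1) (by norm_num)
      (by rw [o3 hx x1]; decide) (by decide +kernel) (by rw [h5 x hx x1]; decide +kernel)⟩
  refine no_pure (Commute.map h7 e) fun x hx => ?_
  simp only [List.mem_cons, List.not_mem_nil, or_false] at hx
  rcases hx with rfl | rfl | rfl | rfl
  · exact h8 a ha a1
  · exact h8 b hb b1
  · exact map_mul e a b ▸ h8 _ (mul_mem ha hb) fun k => h6 (eq_inv_of_mul_eq_one_right k ▸ inv_mem (mem_zpowers a))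
  · rw [← map_pow, ← map_mul]
    refine h8 _ (mul_mem ha (pow_mem hb 2)) fun k => h6 ?_
    have b3 : b ^ 3 = 1 := o3 hb b1 ▸ pow_orderOf_eq_one b
    rw [← b3, pow_succ' b 2, mul_left_inj] at k
    exact k ▸ mem_zpowers a

theorem three (hK : Spor.IsoCo1 K) (H : Sp.Hy T R nu) (hu : Unif T) (h : MI A Γ) (hS : Sup T A S) (h3 : pCore 3 A ≠ ⊥)
    (h2 : pCore 2 A = ⊥) : False := by
  have : Fact (Nat.Prime 3) := ⟨Nat.prime_three⟩
  obtain ⟨e⟩ := id hK
  have := Finite.of_equiv _ e.toEquiv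
  obtain ⟨Q, hQ⟩ := ((Mon.core_pgroup (S := A) 3).map e.toMonoidHom).exists_le_sylow
  obtain ⟨j⟩ := H956.Co1P.sylow_co1 Q
  exact three_of (mx_of_mi (out_congr e S2069.result) h) (H.mass.1 ▸ by decide +kernel)
    (e.symm.toMonoidHom.comp ((Q : Subgroup Spor.Co1).subtype.comp j.toMonoidHom))
    (e.symm.injective.comp (Subtype.val_injective.comp j.injective)) (map_subtype_le _)
    (fun u hu => ⟨j.symm ⟨e u, hQ ⟨u, hu, rfl⟩⟩, by simp⟩) (Mon.core_conj 3) (fun z => cent3 hK H hu h hS h3 h2)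
    fun a ha k => nine H hS ha Nat.prime_three (by decide)

theorem five {U : ℕ} (H : Sp.Hy T R nu) (hu : Unif T) (h : MI A Γ) (hr : Res T A O U) (hS : Sup T A S)
    (h0 : pCore 5 A ≠ ⊥) : False := by
  have hA : Mon.core 5 A ≤ A := map_subtype_le _
  have o5 := fun {y : K} => ord_p H hS hA Nat.prime_five (by decide) (Mon.core_pgroup 5) (y := y)
  by_cases h1 : ∀ u ∈ Mon.core 5 A, u ≠ 1 → T.ty u = 14
  · obtain ⟨a, ha, oa⟩ := exists_ord Nat.prime_five (Mon.core_pgroup (S := A) 5) (core_ne h0)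
    obtain ⟨x, hx, ox⟩ := cyc H.mass hu h Nat.prime_five ha oa (Nat.le_of_dvd (by decide) (pg_le (a := 1) (m := 51)
      Nat.prime_five (Mon.core_pgroup 5) (card_dvd' H idx (-21) [(1, 1)] (fun y hy y1 => by rw [h1 y hy y1]; decide +kernel)
        (by decide +kernel)) (by decide))) (r := 7) (k := 2) (by norm_num) (by decide) (by decide +kernel)
      (by rw [h1 a ha fun e => by rw [e, orderOf_one] at oa; cases oa]; decide +kernel)
    exact ord_of H hS (P := fun n => n ≠ 5 * 7) (by decide) (by decide +kernel) hx ox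
  push Not at h1
  obtain ⟨u, h1, u1, h2⟩ := h1
  obtain ⟨z, oz, h3, h4⟩ := exists_central (F := 3) Nat.prime_five (Mon.core_pgroup (S := A) 5)
    (H.mass.1 ▸ by decide +kernel)
  have h5 : z ∈ centralizer (Mon.core 5 A : Set K) := mem_centralizer_iff.2 fun y hy => (h4 y hy).symm
  have h6 := cent_core_le h h0
  have h7 := not_dvd_cnt H.mass hu Nat.prime_five oz h3 (by decide +kernel)
  have h8 := (Mon.card_le_of_conj fun s hs => (mem_normalizer_iff.1 (cent_norm (Mon.core_conj 5) hs) z).1 h5).trans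
    (Nat.mul_le_mul (pg5 H hS (hA h1) (o5 h1 u1) h2 h6 fun x hx => (mem_centralizer_iff.1 hx u h1).symm)
      (pg5 H hS (h6 h5) oz (fun e => h7 (by rw [e]; decide +kernel)) inf_le_left
        fun x hx => mem_centralizer_singleton_iff.1 hx.2))
  obtain ⟨k1, k2⟩ := mem_of' H (sup_al hr h8) (h6 h5) oz (by decide)
  exact h7 ((by decide +kernel : ∀ s ∈ al O (625 * 625), D.ord s = 5 → 5 ∣ D.cnt s) _ k1 k2)

end OCo1

open Cfsg.Agent.N2.Sp.Co1 in
/-- **`Co1`: a bad subgroup with `O₂ = 1` is not local** -/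
theorem odd_Co1 {K : Type} [Group K] [Finite K] [IsSimpleGroup K] (hK : Spor.IsoCo1 K) {T : TD K D} (H : Sp.Hy T R nu)
    (hu : Unif T) {A : Subgroup K} {Γ : Subgroup (MulAut K)} (h : MI A Γ) (hb : ¬ Good A) (h2 : pCore 2 A = ⊥) {p : ℕ}
    (hp : p.Prime) : pCore p A = ⊥ := by
  have hr := res H hb h.ne_top
  have hS := (sup H hb h.ne_top).2
  by_contra h0
  obtain ⟨a, ha, oa⟩ := exists_of_core hp h0
  have h3 := ord_of H hS (P := fun n => n ≤ 15 ∧ n ≠ 11 ∧ n ≠ 13) (by decide) (by decide +kernel) ha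
  rw [oa] at h3
  obtain rfl | rfl | rfl | rfl : p = 2 ∨ p = 3 ∨ p = 5 ∨ p = 7 := by
    revert hp
    exact (by decide : ∀ p ≤ 15, p ≠ 11 ∧ p ≠ 13 → p.Prime → p = 2 ∨ p = 3 ∨ p = 5 ∨ p = 7) p h3.1 h3.2
  · exact h0 h2
  · exact OCo1.three hK H hu h hS h0 h2
  · exact OCo1.five H hu h hr hS h0
  · obtain ⟨Y, h4, h5⟩ := exists_sq h hp h0 (H.mass.1 ▸ by decide +kernel)
    refine absurd (h5 ▸ card_dvd' H OCo1.idx (-10) [(1, 1)] (Y := Y) (d := 266) (fun y hy y1 => ?_) (by decide +kernel))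
      (by decide)
    exact (by decide +kernel : ∀ s ∈ S, D.ord s ∣ 7 ^ 2 → cv R (-10) [(1, 1)] s = 0) _ (Sp4.mem_of H hS (h4 hy) y1)
      (T.ord y ▸ h5 ▸ orderOf_dvd_natCard Y hy)

end Cfsg.Agent.N2.Sp1
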