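import Cfsg.Agent.N2.Sp1.OddG
import Cfsg.Agent.N2.Sp.GCo2

/-!
# S3519: the odd local subgroups of `Co2` (helper45)
-/

set_option autoImplicit false
set_option maxRecDepth 100000

namespace Cfsg.Agent.N2.Sp1

open Subgroup Cfsg Cfsg.Agent.FP3 Cfsg.Agent.SB Cfsg.Agent.N2.Sp Cfsg.Agent.N2.Sp2 Cfsg.Agent.N2.Sp4T Cfsg.Agent.N2.Sp4
open Cfsg.Agent.TAB.Eng Cfsg.Agent.TAB.Use Cfsg.Agent.SB.SporL Cfsg.Agent.TH.Spor Cfsg.Agent.N2.Sp1.Od

namespace OCo2

open Cfsg.Agent.N2.Sp.Co2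

variable {K : Type} [Group K] [Finite K] {T : TD K D} {A : Subgroup K} {Γ : Subgroup (MulAut K)}

theorem idx : okIdx R = true := by decide +kernel

/-- the number of elements of the type `3A` in a group of exponent three -/
theorem num_four (H : Sp.Hy T R nu) {Y : Subgroup K} (h3 : ∀ y ∈ Y, y ^ 3 = 1) (h : 27 ∣ Nat.card Y) : ¬ 3 ∣ num T Y 4 := by
  have h1 := dvd_cv H idx (-5) [(1, 1)] Y
  rw [vf_congr (φ := fun t => cond (Nat.beq t 0) 18 0 + cond (Nat.beq t 4) (-9) 0) fun y hy =>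
    (by decide +kernel : ∀ t < D.n, D.ord t ∣ 3 → cv R (-5) [(1, 1)] t = cond (Nat.beq t 0) 18 0 + cond (Nat.beq t 4) (-9) 0)
      _ (T.lt y) (T.ord y ▸ orderOf_dvd_of_pow_eq_one (h3 y hy)), vf_add, vf_one (by decide), vf_one (by decide),
    H.num0] at h1
  have h2 := (Int.natCast_dvd_natCast.2 h).trans h1
  omega

theorem cent (H : Sp.Hy T R nu) (ho : ∀ a ∈ A, orderOf a ≤ 8) {d x : K} (hd : d ∈ Mon.core 3 A) (td : T.ty d = 4)
    (hc : ∀ u ∈ Mon.core 3 A, d * u = u * d) (hx : x ∈ A) (x3 : x ^ 3 = 1) : d * x = x * d := by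
  by_contra h0
  have hA : Mon.core 3 A ≤ A := map_subtype_le _
  have c3 := fun {y : K} => cube ho hA (Mon.core_pgroup 3) (y := y)
  have h1 := Mon.core_conj 3 x hx d hd
  have h2 := Mon.core_conj 3 x hx _ h1
  obtain ⟨c, hc'⟩ : ∃ c, c = x * d * x⁻¹ * d⁻¹ := ⟨_, rfl⟩
  have h3 : c ∈ Mon.core 3 A := hc' ▸ mul_mem h1 (inv_mem hd)
  have h4 : x * d * x⁻¹ = c * d := by rw [hc', inv_mul_cancel_right]
  have h5 : Commute c d := (hc c h3).symm
  have h6 : (d * x) ^ 3 = 1 := by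
    have k1 : (d * x) ^ 3 ∈ Mon.core 3 A := by
      rw [cube_eq, x3, mul_one]
      exact mul_mem (mul_mem hd h1) h2
    have k2 : orderOf (d * x) ∣ 3 ^ 2 := orderOf_dvd_of_pow_eq_one ((pow_mul _ 3 3).trans (c3 k1))
    obtain ⟨k, hk, e⟩ := (Nat.dvd_prime_pow Nat.prime_three).1 k2
    have k3 := ho _ (mul_mem (hA hd) hx)
    rw [e] at k3
    refine orderOf_dvd_iff_pow_eq_one.1 (e ▸ (by decide : ∀ k ≤ 2, 3 ^ k ≤ 8 → 3 ^ k ∣ 3) k hk k3)
  have h7 : Commute c x := by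
    rw [cube_eq, x3, mul_one, h4, ← conj_mul, h4, ← mul_assoc d, ← h5.eq, mul_assoc, mul_assoc,
      ← mul_assoc d d, ← mul_assoc (d * d)] at h6
    have k1 : d * d * (x * c * x⁻¹) = x * c * x⁻¹ * (d * d) :=
      (Commute.mul_left (hc _ (Mon.core_conj 3 x hx c h3)) (hc _ (Mon.core_conj 3 x hx c h3))).eq
    rw [k1, mul_assoc, ← mul_assoc (d * d), ← (h5.mul_right h5).eq, mul_assoc c (d * d), ← pow_two, ← pow_succ, c3 hd,
      mul_one, ← mul_assoc, ← c3 h3, pow_succ, pow_two, mul_left_inj, mul_right_inj, mul_inv_eq_iff_eq_mul] at h6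
    exact h6.symm
  have h8 : c ≠ 1 := fun e => h0 (by rw [e, one_mul, mul_inv_eq_iff_eq_mul] at h4; exact h4.symm)
  obtain ⟨Y, y1, y2, y3, y4, -, y6, y7⟩ := heis (c3 h3) (c3 hd) x3 h5 h7 (mul_inv_eq_iff_eq_mul.1 h4) h8
  have pY : IsPGroup 3 Y := fun y => ⟨1, Subtype.ext (y1 y y.2)⟩
  obtain ⟨u, u1, u2, u3⟩ := exists_cent Nat.prime_three pY (num_four H y1
    (by_contra fun k => h0 (comm_of_card Nat.prime_three pY k d y3 x y4)))
  obtain ⟨i, rfl⟩ := y7 u u1 (u3 d y3) (u3 x y4)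
  have p4 : ∀ (y : K) (k : ℕ), y ^ 3 = 1 → y ^ k ≠ 1 → (T.ty y = 4 ↔ T.ty (y ^ k) = 4) := fun y k a1 a2 => by
    rw [pow_eq_pow_mod k a1] at a2 ⊢
    have a3 := Nat.mod_lt k (by decide : 0 < 3)
    generalize k % 3 = l at a2 a3
    interval_cases l
    · exact absurd (pow_zero y) a2
    · rw [pow_one]
    · refine ⟨fun e => by rw [T.pow, e]; decide +kernel, fun e => ?_⟩
      rw [← one_mul y, ← a1, ← pow_succ, show 3 + 1 = 2 * 2 from rfl, pow_mul, T.pow, e]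
      decide +kernel
  have tc := (p4 c i (c3 h3) fun e => by rw [e, (H.zero 1).2 rfl] at u2; cases u2).2 u2
  have e1 : ∀ k : ℕ, T.ty (c ^ k * d) = 4 := fun k => by
    induction k with
    | zero => rwa [pow_zero, one_mul]
    | succ k ih => rw [← ih, pow_succ, mul_assoc, ← h4, ← (h7.pow_left k).symm.mul_inv_cancel, conj_mul,
        (h7.pow_left k).symm.mul_inv_cancel, T.conj]
  have h9 := pos_rw H idx (Y ⊓ centralizer {d}) (i := 1) (by decide +kernel) (b := -4) fun y hy y0 => by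
    obtain ⟨a, b, rfl⟩ := y6 y hy.1 (mem_centralizer_singleton_iff.1 hy.2).symm
    have : T.ty (c ^ a * d ^ b) = 4 := by
      by_cases k : d ^ b = 1
      · rw [k, mul_one] at y0 ⊢
        exact (p4 c a (c3 h3) y0).1 tc
      · have k1 : c ^ a * d ^ b = (c ^ (a * b) * d) ^ b := by
          rw [(h5.pow_left _).mul_pow, ← pow_mul, pow_eq_pow_mod (a * b * b) (c3 h3), pow_eq_pow_mod a (c3 h3)]
          rw [pow_eq_pow_mod b (c3 hd)] at k
          have k2 : b % 3 ≠ 0 := fun e => k (by rw [e, pow_zero])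
          have k3 : b * b % 3 = 1 := by
            rw [Nat.mul_mod]
            exact (by decide : ∀ l < 3, l ≠ 0 → l * l % 3 = 1) _ (Nat.mod_lt b (by decide)) k2
          rw [mul_assoc a, Nat.mul_mod, k3, mul_one, Nat.mod_mod]
        rw [k1] at y0 ⊢
        exact (p4 _ b (c3 (mul_mem (pow_mem h3 _) hd)) y0).1 (e1 _)
    rw [this]
    decide +kernel
  rw [show Sp4.rw R 1 0 = 23 by decide +kernel] at h9
  have : Fact (Nat.Prime 3) := ⟨Nat.prime_three⟩
  obtain ⟨j, hj⟩ := IsPGroup.iff_card.1 (pY.to_inf_left (K := centralizer {d}))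
  have k1 : j < 2 := (Nat.pow_lt_pow_iff_right (by decide : 1 < 3)).1 (by omega)
  obtain ⟨k, hk⟩ := mem_zp (Y := Y ⊓ centralizer {d}) ⟨y2, mem_centralizer_singleton_iff.2 h5⟩ (orderOf_eq_prime (c3 h3) h8)
    (by interval_cases j <;> omega) ⟨y3, mem_centralizer_singleton_iff.2 rfl⟩
  exact h0 (hk ▸ h7.zpow_left k)

variable [IsSimpleGroup K]

theorem three (H : Sp.Hy T R nu) (hu : Unif T) (h : MI A Γ) (hS : Sup T A S) (ho : ∀ a ∈ A, orderOf a ≤ 8)
    (h3 : pCore 3 A ≠ ⊥) (h2 : pCore 2 A = ⊥) : False := by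
  have h6 := fun z => cent_three h h3 h2 (z := z) fun a ha r _ hr e => by
    have := ho a ha
    omega
  obtain ⟨z, oz, h7, h8⟩ := exists_central (F := 5) Nat.prime_three (Mon.core_pgroup (S := A) 3)
    (H.mass.1 ▸ by decide +kernel)
  refine not_dvd_of_cls h Nat.prime_three h6 (fun d => orderOf d = 3 ∧ 3 ^ (5 + 1) ∣ cn d)
    (fun σ x hx => ⟨(σ.orderOf_eq x).trans hx.1, (cn_congr σ x).symm ▸ hx.2⟩) ⟨oz, h7⟩
    (fun e => by rw [e, orderOf_one] at oz; cases oz) h8 (fun d hd hc Y hY pY x hx => ?_)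
    (dvd_index (F := 5) H.mass (by decide +kernel) fun Y hY pY => Nat.le_of_dvd (by norm_num)
      (card_dvd' H idx (-10) [(1, 2)] (fun y hy y1 => ?_) (by decide +kernel)))
  · obtain ⟨k1, k2⟩ := mem_of' H hS (map_subtype_le _ (h6 d hc)) hd.1 (by decide)
    exact cent H ho (h6 d hc) ((by decide +kernel : ∀ s ∈ S, D.ord s = 3 → ¬ 3 ∣ D.cnt s → s = 4) _ k1 k2
      (not_dvd_cnt H.mass hu Nat.prime_three hd.1 hd.2 (by decide +kernel))) hc (hY hx) (cube ho hY pY hx)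
  · obtain ⟨k1, k2⟩ := mem_of' H hS (hY hy) (ord_three ho hY pY hy y1) (by decide)
    exact (by decide +kernel : ∀ s ∈ S, D.ord s = 3 → cv R (-10) [(1, 2)] s = 0) _ k1 k2

end OCo2

open Cfsg.Agent.N2.Sp.Co2 in
/-- **`Co2`: a bad subgroup with `O₂ = 1` is not local** -/
theorem odd_Co2 {K : Type} [Group K] [Finite K] [IsSimpleGroup K] {T : TD K D} (H : Sp.Hy T R nu)
    (hu : Unif T) {A : Subgroup K} {Γ : Subgroup (MulAut K)} (h : MI A Γ) (hb : ¬ Good A) (h2 : pCore 2 A = ⊥) {p : ℕ}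
    (hp : p.Prime) : pCore p A = ⊥ := by
  have hr := res H hb h.ne_top
  have hS := (sup H hb h.ne_top).2
  have ho : ∀ a ∈ A, orderOf a ≤ 6 := fun a ha => ord_of H hS (P := fun n => n ≤ 6) (by decide) (by decide +kernel) ha
  by_contra h0
  obtain ⟨a, ha, oa⟩ := exists_of_core hp h0
  have h3 := ho a ha
  rw [oa] at h3
  obtain rfl | rfl | rfl : p = 2 ∨ p = 3 ∨ p = 5 := by
    revert hp
    clear * - h3
    interval_cases p <;> decide
  · exact h0 h2
  · exact OCo2.three H hu h hS (fun a ha => (ho a ha).trans (by decide)) h0 h2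
  · obtain ⟨-, -, -, -, h7⟩ := five H.mass hu h (F := 2) (m := D.N / 5 ^ 3) hp h0 (fun a ha r hr e => by
      have := ho a ha
      have := hr.two_le
      omega) (by decide +kernel) (by decide +kernel)
    obtain ⟨Y, h4, h5⟩ := exists_sq h hp h0 (H.mass.1 ▸ by decide +kernel)
    have h6 := pos_rw H OCo2.idx Y (i := 1) (by decide +kernel) (b := -2) fun y hy y1 =>
      (by decide +kernel : ∀ s ∈ al O (5 ^ (2 + 1) * 5 ^ (2 + 1)), D.ord s ∣ 5 ^ 2 → Sp4.rw R 1 s ≤ -2) _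
        (Sp4.mem_of H (sup_al hr h7) (h4 hy) y1) (T.ord y ▸ h5 ▸ orderOf_dvd_natCard Y hy)
    rw [h5] at h6
    exact absurd h6 (by decide +kernel)

end Cfsg.Agent.N2.Sp1
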