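import Cfsg.Agent.N2.Sp4.Odd

/-!
# S3519, sporadic rows: tools for the odd local cases of `Co1` and `Co2` (helper45)
-/

set_option autoImplicit false
set_option linter.unusedSectionVars false

namespace Cfsg.Agent.N2.Sp1.Od

open Subgroup Cfsg Cfsg.Agent.FP3 Cfsg.Agent.SB Cfsg.Agent.N2.Sp Cfsg.Agent.N2.Sp2 Cfsg.Agent.N2.Sp4T Cfsg.Agent.N2.Sp4
open Cfsg.Agent.TAB.Eng Cfsg.Agent.TAB.Use Cfsg.Agent.SB.SporL Cfsg.Agent.TH.Spor

section grp

variable {G : Type*} [Group G]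

theorem cube_eq (o x : G) : (o * x) ^ 3 = o * (x * o * x⁻¹) * (x * (x * o * x⁻¹) * x⁻¹) * x ^ 3 := by
  simp only [pow_succ, pow_zero, one_mul, mul_assoc, inv_mul_cancel_left]

/-- the group of order `27` -/
theorem heis {c d x : G} (hc : c ^ 3 = 1) (hd : d ^ 3 = 1) (hx : x ^ 3 = 1) (h1 : Commute c d) (h2 : Commute c x)
    (h3 : x * d = c * d * x) (h0 : c ≠ 1) : ∃ Y : Subgroup G, (∀ y ∈ Y, y ^ 3 = 1) ∧ c ∈ Y ∧ d ∈ Y ∧ x ∈ Y ∧
      (∀ B : Subgroup G, d ∈ B → x ∈ B → Y ≤ B) ∧ (∀ u ∈ Y, d * u = u * d → ∃ i j : ℕ, u = c ^ i * d ^ j) ∧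
      ∀ u ∈ Y, d * u = u * d → x * u = u * x → ∃ i : ℕ, u = c ^ i := by
  have e1 : ∀ j : ℕ, x * d ^ j = c ^ j * d ^ j * x := fun j => by
    rw [← h1.mul_pow, ← mul_inv_cancel_right (c * d) x, ← h3, conj_pow, inv_mul_cancel_right]
  have e2 : ∀ k j : ℕ, x ^ k * d ^ j = c ^ (k * j) * d ^ j * x ^ k := fun k j => by
    induction k with
    | zero => simp
    | succ k ih =>
      rw [pow_succ', mul_assoc, ih, ← mul_assoc, ← mul_assoc, ← (h2.pow_left _).eq, mul_assoc _ x, e1, add_mul, one_mul,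
        pow_add]
      simp only [mul_assoc]
  have e3 : ∀ i j k l m n : ℕ, c ^ i * d ^ j * x ^ k * (c ^ l * d ^ m * x ^ n) =
      c ^ (i + (l + k * m)) * d ^ (j + m) * x ^ (k + n) := fun i j k l m n => by
    rw [mul_assoc (c ^ l), mul_assoc _ (x ^ k), ← mul_assoc (x ^ k), ← (h2.pow_pow l k).eq, mul_assoc (c ^ l),
      ← mul_assoc (x ^ k), e2, ← mul_assoc (c ^ l), ← mul_assoc (c ^ l), ← mul_assoc (c ^ l), ← pow_add, mul_assoc (c ^ i),
      ← mul_assoc (d ^ j), ← mul_assoc (d ^ j), ← mul_assoc (d ^ j), ← (h1.pow_pow _ j).eq, pow_add c i, pow_add d, pow_add x]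
    simp only [mul_assoc]
  have e4 : ∀ i j k : ℕ, (c ^ i * d ^ j * x ^ k) ^ 3 = 1 := fun i j k => by
    rw [pow_succ, pow_two, e3, e3, show i + (i + k * j) + (i + (k + k) * j) = 3 * (i + k * j) by ring,
      show j + j + j = 3 * j by ring, show k + k + k = 3 * k by ring, pow_mul, pow_mul, pow_mul, hc, hd, hx]
    simp
  have e5 : ∀ {y : G} {k : ℕ}, y ^ 3 = 1 → c ^ k = 1 → y ^ k = 1 := fun hy hk => by
    have : Fact (Nat.Prime 3) := ⟨Nat.prime_three⟩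
    obtain ⟨m, rfl⟩ := orderOf_eq_prime hc h0 ▸ orderOf_dvd_of_pow_eq_one hk
    rw [pow_mul, hy, one_pow]
  have e6 : ∀ i j k : ℕ, d * (c ^ i * d ^ j * x ^ k) = c ^ i * d ^ j * x ^ k * d → x ^ k = 1 := fun i j k h => by
    have a1 := e3 0 1 0 i j k
    have a2 := e3 i j k 0 1 0
    simp only [pow_zero, pow_one, one_mul, mul_one, zero_add, add_zero, zero_mul] at a1 a2
    rw [a1, a2, add_comm 1 j, mul_left_inj, mul_left_inj, pow_add, left_eq_mul] at h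
    exact e5 hx h
  let Y : Subgroup G :=
    { carrier := {y | ∃ i j k : ℕ, y = c ^ i * d ^ j * x ^ k}
      mul_mem' := by
        rintro _ _ ⟨i, j, k, rfl⟩ ⟨l, m, n, rfl⟩
        exact ⟨_, _, _, e3 ..⟩
      one_mem' := ⟨0, 0, 0, by simp⟩
      inv_mem' := by
        rintro _ ⟨i, j, k, rfl⟩
        exact ⟨_, _, _, (inv_eq_of_mul_eq_one_left ((pow_succ _ 2).symm.trans (e4 i j k))).trans
          ((pow_two _).trans (e3 ..))⟩ }
  refine ⟨Y, ?_, ⟨1, 0, 0, by simp⟩, ⟨0, 1, 0, by simp⟩, ⟨0, 0, 1, by simp⟩, ?_, ?_, ?_⟩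
  · rintro _ ⟨i, j, k, rfl⟩
    exact e4 i j k
  · rintro B a1 a2 _ ⟨i, j, k, rfl⟩
    have a3 : c = x * d * x⁻¹ * d⁻¹ := by rw [h3]; group
    exact mul_mem (mul_mem (pow_mem (a3 ▸ mul_mem (mul_mem (mul_mem a2 a1) (inv_mem a2)) (inv_mem a1)) i) (pow_mem a1 j))
      (pow_mem a2 k)
  · rintro _ ⟨i, j, k, rfl⟩ h
    exact ⟨i, j, by rw [e6 i j k h, mul_one]⟩
  · rintro _ ⟨i, j, k, rfl⟩ h h'
    rw [e6 i j k h, mul_one] at h' ⊢
    rw [← mul_assoc, ← (h2.pow_left i).eq, mul_assoc, e1, mul_assoc (c ^ i), mul_right_inj, mul_left_inj, mul_eq_right] at h'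
    exact ⟨i, by rw [e5 hd h', mul_one]⟩

theorem key {H : Type*} [CommGroup H] (k : ∀ a : H, a * a * a = 1) (s w u o : H) :
    s * (s * (s * w)) * (u * (s * (s * w) * (u * (s * w * (u * o))))) = o ∧
      o * (s * w * (u * o)) * (s * (s * w) * (u * (s * w * (u * o)))) = s := by
  constructor
  · calc _ = s * s * s * (s * s * s) * (w * w * w) * (u * u * u) * o := by ac_rfl
      _ = _ := by simp [k]
  · calc _ = s * s * s * (w * w * w) * (u * u * u) * (o * o * o) * s := by ac_rfl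
      _ = _ := by simp [k]

/-- **products of quadratic elements** -/
theorem quad {O : Subgroup G} (hc : ∀ a ∈ O, ∀ b ∈ O, a * b = b * a) (h3 : ∀ a ∈ O, a ^ 3 = 1) {x y : G}
    (hx : ∀ o ∈ O, x * o * x⁻¹ ∈ O) (hy : ∀ o ∈ O, y * o * y⁻¹ ∈ O)
    (hxx : ∀ o ∈ O, Commute x (x * o * x⁻¹ * o⁻¹)) (hyy : ∀ o ∈ O, Commute y (y * o * y⁻¹ * o⁻¹))
    (hyx : ∀ o ∈ O, Commute y (x * o * x⁻¹ * o⁻¹)) {o : G} (ho : o ∈ O) :
    (x * y) ^ 3 * o = o * (x * y) ^ 3 ∧ ((o * (x * y)) ^ 3 = (x * y) ^ 3 → Commute x (y * o * y⁻¹ * o⁻¹)) := by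
  obtain ⟨u, hu⟩ : ∃ u, u = x * o * x⁻¹ * o⁻¹ := ⟨_, rfl⟩
  obtain ⟨w, hw⟩ : ∃ w, w = y * o * y⁻¹ * o⁻¹ := ⟨_, rfl⟩
  obtain ⟨s, hs⟩ : ∃ s, s = x * w * x⁻¹ * w⁻¹ := ⟨_, rfl⟩
  have mu : u ∈ O := hu ▸ mul_mem (hx o ho) (inv_mem ho)
  have mw : w ∈ O := hw ▸ mul_mem (hy o ho) (inv_mem ho)
  have ms : s ∈ O := hs ▸ mul_mem (hx w mw) (inv_mem mw)
  let γ := MulAut.conj (x * y)
  have hγ : ∀ t, γ t = x * (y * t * y⁻¹) * x⁻¹ := fun t => by simp [γ, mul_assoc]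
  have g1 : γ u = u := by rw [hγ, hu, (hyx o ho).mul_inv_cancel, (hxx o ho).mul_inv_cancel]
  have g2 : γ s = s := by rw [hγ, hs, (hyx w mw).mul_inv_cancel, (hxx w mw).mul_inv_cancel]
  have g3 : γ w = s * w := by rw [hγ, hs, inv_mul_cancel_right, hw, (hyy o ho).mul_inv_cancel]
  have g4 : γ o = s * w * (u * o) := by
    rw [hγ, hs, hu, inv_mul_cancel_right, inv_mul_cancel_right, conj_mul, hw, inv_mul_cancel_right]
  obtain ⟨k1, k2⟩ := @key O { (inferInstance : Group O) with mul_comm := fun a b => Subtype.ext (hc a a.2 b b.2) }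
    (fun a => Subtype.ext (((pow_succ _ 2).trans (congrArg (· * _) (pow_two _))).symm.trans (h3 a a.2))) ⟨s, ms⟩ ⟨w, mw⟩
    ⟨u, mu⟩ ⟨o, ho⟩
  have g5 : γ (γ o) = s * (s * w) * (u * (s * w * (u * o))) := by rw [g4]; simp only [map_mul, g1, g2, g3, g4]
  have g6 : γ (γ (γ o)) = o := by
    rw [g5]
    simp only [map_mul, g1, g2, g3, g4]
    exact congrArg Subtype.val k1
  refine ⟨?_, fun h => ?_⟩
  · rw [← mul_inv_eq_iff_eq_mul, ← g6, g6]
    simpa [γ, pow_succ, mul_assoc] using g6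
  · rw [cube_eq, mul_eq_right] at h
    have g7 : o * γ o * γ (γ o) = s := by
      rw [g5, g4]
      exact congrArg Subtype.val k2
    rw [← hw, commute_iff_eq, ← mul_inv_eq_iff_eq_mul, ← mul_inv_eq_one, ← hs, ← g7]
    exact h

/-- the form which is used: all elements of `3`-power order of `A` have order three -/
theorem quad' {O A : Subgroup G} (hO : O ≤ A) (hn : ∀ s ∈ A, ∀ o ∈ O, s * o * s⁻¹ ∈ O)
    (hc : ∀ a, a ∈ O ↔ ∀ b ∈ O, a * b = b * a) (h3 : ∀ a ∈ O, a ^ 3 = 1) (h9 : ∀ a ∈ A, (a ^ 3) ^ 3 = 1 → a ^ 3 = 1)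
    {x y : G} (hx : x ∈ A) (hy : y ∈ A) (hxx : ∀ o ∈ O, Commute x (x * o * x⁻¹ * o⁻¹))
    (hyy : ∀ o ∈ O, Commute y (y * o * y⁻¹ * o⁻¹)) (hyx : ∀ o ∈ O, Commute y (x * o * x⁻¹ * o⁻¹)) {o : G} (ho : o ∈ O) :
    Commute x (y * o * y⁻¹ * o⁻¹) := by
  have h1 := fun o (ho : o ∈ O) => quad (fun a ha => (hc a).1 ha) h3 (hn x hx) (hn y hy) hxx hyy hyx ho
  have hg := mul_mem hx hy
  have h2 : (x * y) ^ 3 ∈ O := (hc _).2 fun b hb => (h1 b hb).1
  refine (h1 o ho).2 ((h9 _ (mul_mem (hO ho) hg) (h3 _ ?_)).trans (h9 _ hg (h3 _ h2)).symm)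
  rw [cube_eq]
  exact mul_mem (mul_mem (mul_mem ho (hn _ hg o ho)) (hn _ hg _ (hn _ hg o ho))) h2

variable [Finite G]

theorem comm_of_card {Y : Subgroup G} {p : ℕ} (hp : p.Prime) (hY : IsPGroup p Y) (h : ¬ p ^ 3 ∣ Nat.card Y) :
    ∀ a ∈ Y, ∀ b ∈ Y, a * b = b * a := fun a ha b hb => by
  have := Fact.mk hp
  obtain ⟨k, e⟩ := IsPGroup.iff_card.1 hY
  have hk : k ≤ 2 := by_contra fun h1 => h (e ▸ pow_dvd_pow p (by omega))
  rcases Nat.lt_or_ge k 2 with h1 | h1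
  · have : IsCyclic Y := isCyclic_of_card_dvd_prime (p := p) (e ▸ (pow_dvd_pow p (Nat.lt_succ_iff.1 h1)).trans (by simp))
    exact congrArg Subtype.val (mul_comm' (⟨a, ha⟩ : Y) ⟨b, hb⟩)
  · exact congrArg Subtype.val ((IsPGroup.commGroupOfCardEqPrimeSq (le_antisymm hk h1 ▸ e)).mul_comm ⟨a, ha⟩ ⟨b, hb⟩)

theorem mem_zp {Y : Subgroup G} {p : ℕ} {u : G} (hu : u ∈ Y) (ou : orderOf u = p) (h : Nat.card Y ≤ p) {y : G}
    (hy : y ∈ Y) : y ∈ zpowers u :=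
  (eq_of_le_of_card_ge (zpowers_le.2 hu) (by rwa [Nat.card_zpowers, ou])).ge hy

end grp

section tab

variable {K : Type} [Group K] [Finite K] {D : Dat} {T : TD K D} {R : Rows} {ν : List ℕ} {A : Subgroup K}

/-- subgroups on which a character is small -/
theorem pos_rw (H : Hy T R ν) (hi : okIdx R = true) (Y : Subgroup K) {i : ℕ}
    (hp : allL (fun p => decide (0 ≤ p.2)) (ntd R.rel ([], []) i).1 = true) {b : ℤ}
    (hb : ∀ y ∈ Y, y ≠ 1 → Sp4.rw R i (T.ty y) ≤ b) : 0 ≤ Sp4.rw R i 0 + (Nat.card Y - 1) * b := by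
  have := Fintype.ofFinite Y
  obtain ⟨χ, hE, hR⟩ := H.tab
  obtain ⟨m, hm, -⟩ := SM.Sp.exists_mults hE Y
  have h1 := vf_le (T := T) bot_le hb
  rw [vf_bot H, card_bot, Nat.cast_one] at h1
  refine le_trans ?_ h1
  show 0 ≤ SM.Sp.val T Y _
  rw [(SM.Sp.val_mult hR hi hm i).2]
  refine mul_nonneg (Int.natCast_nonneg _) (List.sum_nonneg fun x hx => ?_)
  obtain ⟨q, h2, rfl⟩ := List.mem_map.1 hx
  exact mul_nonneg (of_decide_eq_true (allL_spec hp q h2)) (Int.natCast_nonneg _)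

theorem dvd_cn (hm : T.Mass) (hu : Unif T) {x : K} (hx : (orderOf x).Prime) {r k : ℕ} (hr : r.Prime) (h1 : orderOf x < r)
    (h2 : r ^ k ∣ D.N) (h3 : ¬ r ^ k ∣ D.cnt (T.ty x)) : r ∣ cn x := by
  have := Fintype.ofFinite {h : K // T.ty h = T.ty x}
  have h4 := sum_fx (T := T) (zpowers x) (T.ty x)
  have h5 : ∀ y z : K, (orderOf y).Prime → T.ty y = T.ty z → fx (zpowers x) y ≤ fx (zpowers x) z := fun y z h3 h4 => by
    obtain ⟨k, hk⟩ := hu y z h3 h4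
    exact fx_conj _ hk ▸ fx_le_pow _ y k
  rw [Finset.sum_congr rfl (g := fun _ => cn x * cc (zpowers x) x) fun y _ => by
    rw [← fx_mul, le_antisymm (h5 y x (by rwa [T.ord, y.2, ← T.ord]) y.2) (h5 x y hx y.2.symm)],
    Finset.sum_const, Finset.card_univ, ← Nat.card_eq_fintype_card, hm.2 _ (T.lt x), smul_eq_mul, hm.1] at h4
  by_contra h6
  have h7 : 0 < cc (zpowers x) x := Nat.pos_of_ne_zero fun e => by
    rw [e, mul_zero, mul_zero, ← hm.1] at h4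
    exact (Nat.mul_pos Nat.card_pos (num_pos (mem_zpowers x))).ne h4
  have h8 : cc (zpowers x) x < r := (cc_le _ x).trans_lt (by rwa [Nat.card_zpowers])
  exact h3 ((Nat.Coprime.pow_left _ (hr.coprime_iff_not_dvd.2 (hr.not_dvd_mul h6 (Nat.not_dvd_of_pos_of_lt h7
    h8)))).dvd_of_dvd_mul_right (h4 ▸ h2.mul_right _))

/-- a central element of a given type -/
theorem exists_cent {p : ℕ} (hp : p.Prime) {Y : Subgroup K} (hY : IsPGroup p Y) {t : ℕ} (h : ¬ p ∣ num T Y t) :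
    ∃ u ∈ Y, T.ty u = t ∧ ∀ y ∈ Y, y * u = u * y := by
  have := Fact.mk hp
  let _ : MulAction Y {s : Y // T.ty s = t} :=
    { smul := fun g s => ⟨g * s.1 * g⁻¹, (T.conj _ _).trans s.2⟩
      one_smul := fun s => Subtype.ext (by show 1 * s.1 * 1⁻¹ = _; simp)
      mul_smul := fun a b s => Subtype.ext (by show a * b * s.1 * (a * b)⁻¹ = a * (b * s.1 * b⁻¹) * a⁻¹; group) }
  obtain ⟨u, hu⟩ := hY.nonempty_fixed_point_of_prime_not_dvd_card {s : Y // T.ty s = t} h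
  exact ⟨u.1, u.1.2, u.2, fun y hy => mul_inv_eq_iff_eq_mul.1 (congrArg (fun s => ((s.1 : Y) : K)) (hu ⟨y, hy⟩))⟩

theorem vf_congr {Y : Subgroup K} {ψ φ : ℕ → ℤ} (h : ∀ y ∈ Y, ψ (T.ty y) = φ (T.ty y)) : vf T Y ψ = vf T Y φ := by
  classical
  have := Fintype.ofFinite K
  rw [vf_sum, vf_sum]
  exact Finset.sum_congr rfl fun y hy => h y (by simpa using hy)

variable [IsSimpleGroup K] {Γ : Subgroup (MulAut K)}

theorem core_ne {p : ℕ} (h0 : pCore p A ≠ ⊥) : Mon.core p A ≠ ⊥ := fun e =>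
  h0 ((map_eq_bot_iff_of_injective _ A.subtype_injective).1 e)

theorem norm_core (h : MI A Γ) {p : ℕ} (h0 : pCore p A ≠ ⊥) : normalizer (Mon.core p A : Set K) = A :=
  mi_norm h (inv_core h p) (core_ne h0) fun e => h.ne_top (top_le_iff.1 (e ▸ map_subtype_le _))

/-- a subgroup of order `p ^ 2` -/
theorem exists_sq (h : MI A Γ) {p : ℕ} (hp : p.Prime) (h0 : pCore p A ≠ ⊥) (h1 : p ^ 2 ∣ Nat.card K) :
    ∃ Y ≤ A, Nat.card Y = p ^ 2 := by
  have := Fact.mk hp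
  obtain ⟨n, hn⟩ := IsPGroup.iff_card.1 (Mon.core_pgroup (S := A) p)
  have h2 : p ^ 2 ∣ Nat.card A := by
    match n with
    | 0 => exact absurd (card_eq_one.1 hn) (core_ne h0)
    | 1 => exact norm_core h h0 ▸ Sylow.prime_pow_dvd_card_normalizer h1 hn
    | n + 2 => exact (pow_dvd_pow p (by omega)).trans (hn ▸ card_dvd_of_le (map_subtype_le _))
  obtain ⟨Q, hQ⟩ := Sylow.exists_subgroup_card_pow_prime p h2
  exact ⟨_, map_subtype_le Q, (card_map_of_injective A.subtype_injective).trans hQ⟩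

/-- the core has prime order -/
theorem cyc (hm : T.Mass) (hu : Unif T) (h : MI A Γ) {p : ℕ} (hp : p.Prime) {u : K} (h1 : u ∈ Mon.core p A)
    (ou : orderOf u = p) (h2 : Nat.card (Mon.core p A) ≤ p) {r k : ℕ} (hr : r.Prime) (h3 : p < r) (h4 : r ^ k ∣ D.N)
    (h5 : ¬ r ^ k ∣ D.cnt (T.ty u)) : ∃ a ∈ A, orderOf a = p * r := by
  have h0 : pCore p A ≠ ⊥ := fun e => by
    rw [Mon.core, e, Subgroup.map_bot, mem_bot] at h1
    rw [h1, orderOf_one] at ou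
    exact hp.one_lt.ne ou
  refine (primes_cent (C := centralizer {u}) (fun c hc => cent_core_le h h0 (mem_centralizer_iff.2 fun y hy => ?_)) hp
    (map_subtype_le _ h1) ou (fun c hc => mem_centralizer_singleton_iff.1 hc) hr
    (dvd_cn hm hu (ou ▸ hp) hr (ou ▸ h3) h4 h5)).resolve_left h3.ne'
  obtain ⟨k, rfl⟩ := mem_zp h1 ou h2 hy
  exact (Commute.zpow_right (mem_centralizer_singleton_iff.1 hc) k).symm

/-- **a class of elements of the centre of `O_p(A)` which is centralised by all `p`-elements** -/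
theorem not_dvd_of_cls (h : MI A Γ) {p : ℕ} (hp : p.Prime)
    (hc : ∀ z : K, (∀ u ∈ Mon.core p A, z * u = u * z) → z ∈ Mon.core p A) (X : K → Prop)
    (hX : ∀ (σ : MulAut K) x, X x → X (σ x)) {z : K} (hz : X z) (z1 : z ≠ 1) (hzc : ∀ u ∈ Mon.core p A, z * u = u * z)
    (h1 : ∀ d, X d → (∀ u ∈ Mon.core p A, d * u = u * d) → ∀ Y ≤ A, IsPGroup p Y → ∀ x ∈ Y, d * x = x * d) :
    ¬ p ∣ A.index := by
  have := Fact.mk hp
  obtain ⟨P⟩ : Nonempty (Sylow p A) := inferInstance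
  let E := closure {d | X d ∧ ∀ u ∈ Mon.core p A, d * u = u * d}
  have h2 : ∀ σ : MulAut K, (∀ d, X d → (∀ u ∈ Mon.core p A, d * u = u * d) → ∀ u ∈ Mon.core p A,
      d * σ⁻¹ u = σ⁻¹ u * d) → ∀ x ∈ E, σ x ∈ E := fun σ k =>
    (closure_le (E.comap σ.toMonoidHom)).2 fun d hd => subset_closure ⟨hX σ d hd.1, fun u hu => by
      simpa using congrArg σ (k d hd.1 hd.2 u hu)⟩
  have h3 : E ≤ A := (closure_le _).2 fun d hd => map_subtype_le _ (hc d hd.2)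
  have h4 : (inc P).range ≤ A := fun x hx => (mem_inc.1 hx).1
  refine not_dvd_of_norm P fun t ht => (mi_norm h (E := E) (fun σ hσ => h2 σ fun d _ k u hu =>
    k _ (inv_core h p _ (Γ.inv_mem hσ) u hu)) (fun e => z1 (mem_bot.1 (e ▸ subset_closure ⟨hz, hzc⟩)))
    fun e => h.ne_top (top_le_iff.1 (e ▸ h3))).le (mem_normalizer_fintype (h2 (MulAut.conj t) fun d k1 k2 u hu =>
      h1 d k1 k2 _ h4 (pg_inc P) _ ?_))
  obtain ⟨u, h5, rfl⟩ := hu
  have := Lib.Cores.pCore_normal (G := A) p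
  have h6 : (u : K) ∈ (inc P).range := mem_inc.2 ⟨u.2, (Lib.Cores.pCore_isPGroup p).le_sylow_of_normal P h5⟩
  simpa using (mem_normalizer_iff.1 (inv_mem ht) _).1 h6

end tab

end Cfsg.Agent.N2.Sp1.Od
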