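import Cfsg.Agent.H776.Co.Grp

/-!
# S3519, `Co1`: centric subgroups of a Sylow `3`-subgroup whose normaliser has exponent three (helper45)
-/

set_option autoImplicit false

namespace Cfsg.Agent.N2.Sp1.OP

open Subgroup Cfsg.Agent.H776.Co Cfsg.Agent.H776.Co.P

/-- the commutator with an element of the abelian normal subgroup -/
def nf (x j : P) : P :=
  ⟨0, 0, 0, 2 * x.a * j.m12 + 2 * x.c * j.m13 + x.a ^ 2 * j.m22 + 2 * x.a * x.c * j.m23 + x.c ^ 2 * j.m33,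
    x.a * j.m22 + x.c * j.m23 + x.b * (j.m13 + x.a * j.m23 + x.c * j.m33), 2 * x.b * j.m23 + x.b ^ 2 * j.m33,
    x.a * j.m23 + x.c * j.m33, x.b * j.m33, 0⟩

theorem mul_nf (x : P) {j : P} (hj : j ∈ A) : x * j = nf x j * j * x := by
  obtain ⟨h1, h2, h3⟩ := hj
  ext <;> simp [nf, h1, h2, h3] <;> ring

theorem nf_mem (x j : P) : nf x j ∈ A := ⟨rfl, rfl, rfl⟩

theorem comm_iff (x : P) {j : P} (hj : j ∈ A) : j * x = x * j ↔ nf x j = 1 := by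
  rw [mul_nf x hj, mul_left_inj, eq_comm, mul_eq_right]

theorem cube {x j : P} (hj : j ∈ A) (hx : x ^ 3 = 1) (h : (j * x) ^ 3 = 1) : nf x (nf x j) = 1 := by
  have h1 : ∀ j ∈ A, ∀ u ∈ A, ∀ s ∈ A, j * (u * j) * (s * u * (u * j)) = s := by
    rintro j ⟨a1, a2, a3⟩ u ⟨b1, b2, b3⟩ s ⟨c1, c2, c3⟩
    have h2 : ∀ j u s : ZMod 3, j + (u + j) + (s + u + (u + j)) = s := by decide
    ext <;> simp [*]
  have h2 : ∀ j ∈ A, nf x j * j = x * j * x⁻¹ := fun j hj => by rw [mul_nf x hj, mul_inv_cancel_right]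
  rw [← h1 j hj _ (nf_mem x j) _ (nf_mem x (nf x j)), h2 _ (nf_mem x j), h2 j hj, conj_mul, h2 j hj, ← h,
    ← mul_one (_ * _ * _), ← hx]
  simp only [pow_succ, pow_zero, one_mul, mul_assoc, inv_mul_cancel_left]

/-- an element of the abelian subgroup -/
def mm (p q r s t u : ZMod 3) : P := ⟨0, 0, 0, p, q, r, s, t, u⟩

theorem mm_mem (p q r s t u : ZMod 3) : mm p q r s t u ∈ A := ⟨rfl, rfl, rfl⟩

theorem two_ne : (2 : ZMod 3) ≠ 0 := by decide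

theorem w1_comm {z : P} (h : z ∈ W1) (x : P) : z * x = x * z := by
  obtain ⟨h1, h2, h3, h4, h5, h6, h7, h8⟩ := h
  ext <;> simp [*, add_comm]

/-- the hypotheses -/
structure Hp (O Y : Subgroup P) : Prop where
  le : O ≤ Y
  ex : ∀ y ∈ Y, y ^ 3 = 1
  cen : ∀ x, (∀ o ∈ O, x * o = o * x) → x ∈ O
  nrm : ∀ x, (∀ v, (∀ o ∈ O, v * o = o * v) → ∀ o ∈ O, x * v * x⁻¹ * o = o * (x * v * x⁻¹)) → x ∈ Y

variable {O Y : Subgroup P}

theorem Hp.e22 (h : Hp O Y) (h1 : mm 0 0 1 0 0 0 ∈ Y) {x : P} (hx : x ∈ Y) : x.a = 0 := by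
  have k := congrArg P.m11 (cube (mm_mem ..) (h.ex x hx) (h.ex _ (mul_mem h1 hx)))
  simpa [nf, mm, two_ne] using k

theorem Hp.not_le (h : Hp O Y) : ¬ A ≤ Y := fun h1 => by
  have h2 : O ≤ A := fun x hx => by
    have e1 := h.e22 (h1 (mm_mem ..)) (h.le hx)
    have k := cube (mm_mem 0 0 0 0 0 1) (h.ex x (h.le hx)) (h.ex _ (mul_mem (h1 (mm_mem ..)) (h.le hx)))
    exact ⟨e1, by simpa [nf, mm, two_ne] using congrArg P.m22 k, by simpa [nf, mm, two_ne, e1] using congrArg P.m11 k⟩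
  exact absurd (h.e22 (h1 (mm_mem ..)) (h.nrm (xa 1) fun v hv o ho => A_comm (A_conj (h2 (h.cen v hv)) _) (h2 ho)))
    (by decide)

/-- `O` is abelian -/
theorem Hp.comm (h : Hp O Y) (h1 : (∀ a ∈ O, ∀ b ∈ O, a * b * a⁻¹ * b⁻¹ ∈ A) → ∀ a ∈ O, ∀ b ∈ O, a * b = b * a) :
    ∀ a ∈ O, ∀ b ∈ O, a * b = b * a := by
  refine h1 fun x hx y hy => ⟨by simp, by simp, ?_⟩
  by_contra h2
  have h3 : x.a * y.b ≠ y.a * x.b := fun e => h2 (by simp only [mul_a, mul_c, inv_a, inv_b, inv_c]; linear_combination e)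
  have h4 : mm 0 0 1 0 0 0 ∈ Y := h.nrm _ fun v hv o ho => by
    have k1 := congrArg P.c (hv x hx)
    have k2 := congrArg P.c (hv y hy)
    simp only [mul_c] at k1 k2
    have k3 : v.a = 0 := (mul_eq_zero.1 (by linear_combination y.a * k1 - x.a * k2)).resolve_right (sub_ne_zero.2 h3.symm)
    rw [(comm_iff v (mm_mem ..)).2 (by ext <;> simp [nf, mm, k3]), mul_inv_cancel_right, hv o ho]
  exact h3 (by rw [h.e22 h4 (h.le hx), h.e22 h4 (h.le hy), zero_mul, zero_mul])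

/-- elements which normalise `O` -/
theorem Hp.mem (h : Hp O Y) {j : P} (h1 : ∀ v ∈ O, ∀ o ∈ O, Commute (j * v * j⁻¹ * v⁻¹) o) : j ∈ Y :=
  h.nrm j fun v hv o ho => by
    rw [← inv_mul_cancel_right (j * v * j⁻¹) v]
    exact ((h1 v (h.cen v hv) o ho).mul_left (hv o ho)).eq

theorem cm_eq (v : P) {j : P} (hj : j ∈ A) : j * v * j⁻¹ * v⁻¹ = (nf v j)⁻¹ := by
  rw [eq_inv_iff_mul_eq_one, mul_assoc j, mul_assoc j, ← conj_inv, mul_nf v hj, mul_inv_cancel_right, mul_inv_rev]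
  group

theorem pow_a (v : P) (k : ℕ) : (v ^ k).a = k * v.a ∧ (v ^ k).b = k * v.b ∧ (v.a = 0 → (v ^ k).c = k * v.c) := by
  induction k with
  | zero => simp
  | succ k ih =>
    refine ⟨by simp [pow_succ, ih.1, add_mul], by simp [pow_succ, ih.2.1, add_mul], fun h => ?_⟩
    simp [pow_succ, ih.1, ih.2.2 h, h, add_mul]

/-- transvections with a common axis -/
def Ax (O Y : Subgroup P) : Prop := ∃ v ∈ O, (∀ o ∈ O, ∃ k : ℕ, o * (v ^ k)⁻¹ ∈ A) ∧ ∃ x ∈ A ⊓ Y, ∃ y ∈ A ⊓ Y,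
  x * v ≠ v * x ∧ ∀ m : ℕ, x ^ m * y * v ≠ v * (x ^ m * y)

/-- transvections with a common centre -/
def Ce (O Y : Subgroup P) : Prop := (∀ o ∈ O ⊓ A, o ∈ W1) ∧ ∀ w ∈ O, w ∉ A →
  (∃ x ∈ A ⊓ Y, x * w ≠ w * x) ∧ ∃ y ∈ A ⊓ Y, y * w = w * y ∧ y ∉ W1

theorem mm_pow (q s : ZMod 3) (m : ℕ) : mm 0 q 0 s 0 0 ^ m = mm 0 (m * q) 0 (m * s) 0 0 := by
  induction m with
  | zero => simp [mm, one_def]
  | succ m ih => rw [pow_succ, ih]; ext <;> simp [mm, add_mul]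

theorem Hp.ax (h : Hp O Y) {v : P} (hv : v ∈ O) (h0 : v ∉ A) (h1 : ∀ o ∈ O, ∃ k : ℕ, o * (v ^ k)⁻¹ ∈ A) : Ax O Y := by
  have h2 : ∀ j ∈ A, nf v (nf v j) = 1 → j ∈ A ⊓ Y := fun j hj e => ⟨hj, h.mem fun w _ o ho => by
    have k1 : Commute (nf v j) v := (comm_iff v (nf_mem v j)).2 e
    obtain ⟨k, hk⟩ := h1 o ho
    obtain ⟨l, hl⟩ := h1 w ‹_›
    have k2 : Commute (nf v j) o := by
      rw [← inv_mul_cancel_right o (v ^ k)]
      exact Commute.mul_right (A_comm (nf_mem v j) hk) (k1.pow_right k)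
    have k3 : j * w * j⁻¹ * w⁻¹ = (nf v j)⁻¹ ^ l := by
      obtain ⟨u, hu, rfl⟩ : ∃ u ∈ A, w = u * v ^ l := ⟨_, hl, by simp⟩
      rw [← mul_assoc, A_comm hj hu, mul_assoc u, mul_assoc u, ← conj_pow, ← inv_mul_cancel_right (j * v * j⁻¹) v,
        cm_eq v hj, k1.inv_left.mul_pow, ← mul_assoc, A_comm hu (pow_mem (inv_mem (nf_mem v j)) l)]
      group
    rw [k3]
    exact k2.inv_left.pow_left l⟩
  by_cases ha : v.a = 0
  · refine ⟨v, hv, h1, mm 0 0 0 1 0 0, h2 _ (mm_mem ..) (by ext <;> simp [nf, mm, ha]), mm 0 0 0 0 1 0,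
      h2 _ (mm_mem ..) (by ext <;> simp [nf, mm, ha]), fun e => h0 ?_, fun m e => h0 ?_⟩
    · have k := (comm_iff v (mm_mem ..)).1 e
      exact ⟨ha, by simpa [nf, mm] using congrArg P.m12 k, by simpa [nf, mm, two_ne] using congrArg P.m11 k⟩
    · rw [mm_pow] at e
      have k := (comm_iff v (mul_mem (mm_mem ..) (mm_mem ..))).1 e
      have hb : v.b = 0 := by simpa [nf, mm, two_ne] using congrArg P.m22 k
      exact ⟨ha, hb, by simpa [nf, mm, ha, hb] using congrArg P.m12 k⟩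
  · refine ⟨v, hv, h1, mm 0 1 0 0 0 0, h2 _ (mm_mem ..) (by ext <;> simp [nf, mm]), mm 0 0 (v.a * v.c + v.b) 0 1 0,
      h2 _ (mm_mem ..) ?_, fun e => ha ?_, fun m e => ha ?_⟩
    · have k : ∀ a b c : ZMod 3, a ≠ 0 → 2 * a * (a * (a * c + b) + c + b * a) + 2 * c * a + a ^ 2 * (2 * b) = 0 ∧
        a * (2 * b) + b * a = 0 := by decide
      ext <;> simp [nf, mm, (k _ _ v.c ha).1, (k _ _ v.c ha).2]
    · simpa [nf, mm, two_ne] using congrArg P.m11 ((comm_iff v (mm_mem ..)).1 e)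
    · rw [mm_pow] at e
      simpa [nf, mm] using congrArg P.m13 ((comm_iff v (mul_mem (mm_mem ..) (mm_mem ..))).1 e)

theorem Hp.ce (h : Hp O Y) (hc : ∀ a ∈ O, ∀ b ∈ O, a * b = b * a) {u w : P} (hu : u ∈ O) (hw : w ∈ O) (h1 : u.a = 0)
    (h2 : u.b = 0) (h3 : u.c = 1) (h4 : w.a ≠ 0) : Ce O Y := by
  have h7 : ∀ o ∈ O, o.a * w.b = w.a * o.b := fun o ho => by
    have k1 := congrArg P.c (hc o ho w hw)
    simp only [mul_c] at k1
    linear_combination k1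
  have h5 : ∀ l m, ∀ o ∈ O, nf o (mm 0 l (-(m * w.b)) (m * w.a) 0 0) =
      mm (2 * o.a * l + 2 * o.c * (m * w.a) - o.a ^ 2 * (m * w.b)) 0 0 0 0 0 := fun l m o ho => by
    ext <;> simp [nf, mm]
    · ring
    · linear_combination -m * h7 o ho
  have h8 : ∀ l m, mm 0 l (-(m * w.b)) (m * w.a) 0 0 ∈ A ⊓ Y := fun l m => ⟨mm_mem .., h.mem fun v hv o _ => by
    rw [cm_eq v (mm_mem ..), h5 l m v hv]
    exact Commute.inv_left (w1_comm ⟨rfl, rfl, rfl, rfl, rfl, rfl, rfl, rfl⟩ o)⟩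
  refine ⟨fun o ho => ?_, fun v hv h0 => ?_⟩
  · have k1 := (comm_iff u ho.2).1 (hc o ho.1 u hu)
    have k2 := (comm_iff w ho.2).1 (hc o ho.1 w hw)
    have e1 : o.m33 = 0 := by simpa [nf, h1, h3] using congrArg P.m13 k1
    have e2 : o.m23 = 0 := by simpa [nf, h1, h2, h3] using congrArg P.m12 k1
    have e3 : o.m13 = 0 := by simpa [nf, h1, h3, e1, two_ne] using congrArg P.m11 k1
    have e4 : o.m22 = 0 := by simpa [nf, e1, e2, e3, h4] using congrArg P.m12 k2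
    exact ⟨ho.2.1, ho.2.2.1, ho.2.2.2, by simpa [nf, e1, e2, e3, e4, h4, two_ne] using congrArg P.m11 k2, e4, e3, e2, e1⟩
  · obtain ⟨⟨l, m, k1⟩, l', m', k2, k3⟩ := (by decide +kernel : ∀ a b p q c : ZMod 3, a ≠ 0 → p * b = a * q →
      ¬ (p = 0 ∧ q = 0 ∧ c = 0) → (∃ l m, 2 * p * l + 2 * c * (m * a) - p ^ 2 * (m * b) ≠ 0) ∧
      ∃ l m, 2 * p * l + 2 * c * (m * a) - p ^ 2 * (m * b) = 0 ∧ ¬ (l = 0 ∧ m * a = 0)) _ _ _ _ _ h4 (h7 v hv) h0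
    exact ⟨⟨_, h8 l m, fun e => k1 (congrArg P.m11 ((h5 l m v hv).symm.trans ((comm_iff v (mm_mem ..)).1 e)))⟩, _, h8 l' m',
      (comm_iff v (mm_mem ..)).2 (by rw [h5 l' m' v hv, k2]; rfl), fun k => k3 ⟨k.2.2.2.1, k.2.2.2.2.2.1⟩⟩

theorem Hp.dd (h : Hp O Y) (hc : ∀ a ∈ O, ∀ b ∈ O, a * b = b * a) {u w : P} (hu : u ∈ O) (hw : w ∈ O) (h1 : u.b = 0)
    (h2 : u.c = 1) (h3 : w.b ≠ 0) (h4 : ∀ o ∈ O, o.a = 0) : False := by
  have h5 : u.m33 = 0 := by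
    have k := congrArg P.m11 (h.ex u (h.le hu))
    simp only [pow_succ, pow_zero, one_mul, mul_a, mul_c, mul_m11, h1, h2, h4 u hu, one_m11] at k
    exact (by decide : ∀ p q r : ZMod 3, 3 * p + 6 * q + 5 * r = 0 → r = 0) u.m11 u.m13 _ (by linear_combination k)
  have h6 : ∀ o ∈ O, o.m33 = 0 ∧ o.m13 = u.m13 * o.c ∧ o.m23 = u.m23 * o.c + u.m13 * o.b ∧ 2 * o.b * u.m23 = 0 :=
    fun o ho => by
      have k := hc u hu o ho
      have k1 := congrArg P.m13 k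
      have k2 := congrArg P.m11 k
      have k3 := congrArg P.m12 k
      have k4 := congrArg P.m22 k
      simp only [mul_m11, mul_m12, mul_m22, mul_m13, h1, h2, h5, h4 u hu, h4 o ho] at k1 k2 k3 k4
      have e1 : o.m33 = 0 := by linear_combination k1
      rw [e1] at k2
      exact ⟨e1, mul_left_cancel₀ two_ne (by linear_combination k2), by linear_combination k3, by linear_combination -k4⟩
  have h7 : u.m23 = 0 := (mul_eq_zero.1 (h6 w hw).2.2.2).resolve_left (mul_ne_zero two_ne h3)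
  have h8 : O ≤ DD u.m13 := fun o ho => ⟨h4 o ho, (h6 o ho).1, (h6 o ho).2.1, by rw [(h6 o ho).2.2.1, h7, zero_mul, zero_add]⟩
  refine absurd (h.e22 (h.le (h.cen _ fun o ho => DD_comm (i := u.m13) ⟨rfl, rfl, ?_, ?_⟩ (h8 ho)))
    (h.nrm (xa 1) fun v hv o ho => DD_comm (DD_xa (h8 (h.cen v hv))) (h8 ho))) (by decide) <;> simp [mm]

/-- **the two configurations** -/
theorem Hp.main (h : Hp O Y) (hc : ∀ a ∈ O, ∀ b ∈ O, a * b = b * a) (h0 : ¬ O ≤ A) : Ax O Y ∨ Ce O Y := by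
  obtain ⟨v, hv, h1⟩ := SetLike.not_le_iff_exists.1 h0
  by_cases h2 : ∀ o ∈ O, ∃ k : ℕ, o * (v ^ k)⁻¹ ∈ A
  · exact Or.inl (h.ax hv h1 h2)
  push Not at h2
  obtain ⟨w, hw, h2⟩ := h2
  have h4 := congrArg P.c (hc v hv w hw)
  simp only [mul_c] at h4
  have h3 : ∀ a p : ZMod 3, a ≠ 0 → ∃ k < 3, p = (k : ℕ) * a := by decide
  obtain ⟨u, hu, f1, f2, f3⟩ : ∃ u ∈ O, u.a = 0 ∧ u.b = 0 ∧ u.c ≠ 0 := by
    by_cases e : v.a = 0 ∧ v.b = 0
    · exact ⟨v, hv, e.1, e.2, fun k => h1 ⟨e.1, e.2, k⟩⟩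
    obtain ⟨k, -, e1, e2⟩ := (by decide : ∀ a b p q : ZMod 3, ¬ (a = 0 ∧ b = 0) → a * q = p * b →
      ∃ k < 3, p = (k : ℕ) * a ∧ q = (k : ℕ) * b) v.a v.b w.a w.b e (by linear_combination h4)
    have e3 : (w * (v ^ k)⁻¹).a = 0 := by simp [(pow_a v k).1, e1]
    have e4 : (w * (v ^ k)⁻¹).b = 0 := by simp [(pow_a v k).2.1, e2]
    exact ⟨_, mul_mem hw (inv_mem (pow_mem hv k)), e3, e4, fun e5 => h2 k ⟨e3, e4, e5⟩⟩
  obtain ⟨k, -, f4⟩ := h3 _ 1 f3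
  have g1 := (pow_a u k).1
  have g2 := (pow_a u k).2.1
  have g3 := ((pow_a u k).2.2 f1).trans f4.symm
  rw [f1, mul_zero] at g1
  rw [f2, mul_zero] at g2
  by_cases h5 : ∀ o ∈ O, o.a = 0
  · refine (h.dd hc (pow_mem hu k) hv g2 g3 (fun e1 => h.dd hc (pow_mem hu k) hw g2 g3 (fun e2 => ?_) h5) h5).elim
    obtain ⟨l, -, e3⟩ := h3 v.c w.c fun e => h1 ⟨h5 v hv, e1, e⟩
    exact h2 l ⟨by simp [(pow_a v l).1, h5 v hv, h5 w hw], by simp [(pow_a v l).2.1, e1, e2],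
      by simp [pow_a v l, h5 v hv, h5 w hw, e3]⟩
  · push Not at h5
    obtain ⟨o, ho, h5⟩ := h5
    exact Or.inr (h.ce hc (pow_mem hu k) ho g1 g2 g3 h5)

theorem w1_eq {x : P} (h : x ∈ W1) : ∃ k < 3, x = mm 1 0 0 0 0 0 ^ k := by
  obtain ⟨h1, h2, h3, h4, h5, h6, h7, h8⟩ := h
  have e : x = mm x.m11 0 0 0 0 0 := by ext <;> simp [mm, *]
  rw [e]
  exact (by decide +kernel : ∀ p : ZMod 3, ∃ k < 3, mm p 0 0 0 0 0 = mm 1 0 0 0 0 0 ^ k) _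

theorem z_mem : mm 1 0 0 0 0 0 ∈ W1 := ⟨rfl, rfl, rfl, rfl, rfl, rfl, rfl, rfl⟩

theorem z_ne : mm 1 0 0 0 0 0 ≠ 1 := by decide

end Cfsg.Agent.N2.Sp1.OP
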