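import Cfsg.Agent.N2.Sp1.OddG
import Cfsg.Agent.N2.Sp1.OddP

/-!
# S3519, `Co1`: the case of characteristic three (helper45)
-/

set_option autoImplicit false

namespace Cfsg.Agent.N2.Sp1.Od

open Subgroup Cfsg Cfsg.Agent.N2.Sp4T

variable {G : Type*} [Group G]

theorem pw3 {u : G} (h : u ^ 3 = 1) {k : ℕ} (hk : u ^ k ≠ 1) : (u ^ k) ^ k = u := by
  have h1 : k % 3 ≠ 0 := fun e => hk (by rw [pow_eq_pow_mod k h, e, pow_zero])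
  rw [← pow_mul, pow_eq_pow_mod _ h, Nat.mul_mod,
    (by decide : ∀ l < 3, l ≠ 0 → l * l % 3 = 1) _ (Nat.mod_lt k (by decide)) h1, pow_one]

/-- the situation -/
structure Qs (A O J : Subgroup G) : Prop where
  le : O ≤ A
  nrm : ∀ s ∈ A, ∀ o ∈ O, s * o * s⁻¹ ∈ O
  cen : ∀ a, a ∈ O ↔ ∀ b ∈ O, a * b = b * a
  ex : ∀ a ∈ O, a ^ 3 = 1
  nine : ∀ a ∈ A, (a ^ 3) ^ 3 = 1 → a ^ 3 = 1
  ab : ∀ a ∈ J, ∀ b ∈ J, Commute a b
  cm : ∀ j ∈ J, ∀ o ∈ O, j * o * j⁻¹ * o⁻¹ ∈ J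
  esc : ∀ u, (∀ a ∈ A, a * u * a⁻¹ ∈ J) → u = 1

variable {A O J : Subgroup G}

theorem Qs.sw (h : Qs A O J) {a x y : G} (ha : a ∈ A) (hx : x ∈ J ⊓ A) (hy : y ∈ J ⊓ A)
    (h1 : ∀ o ∈ O, Commute x (a⁻¹ * (y * o * y⁻¹ * o⁻¹) * a⁻¹⁻¹)) {o : G} (ho : o ∈ O) :
    Commute y (a * (x * o * x⁻¹ * o⁻¹) * a⁻¹) := by
  have e : ∀ o, a * x * a⁻¹ * o * (a * x * a⁻¹)⁻¹ * o⁻¹ =
      a * (x * (a⁻¹ * o * a⁻¹⁻¹) * x⁻¹ * (a⁻¹ * o * a⁻¹⁻¹)⁻¹) * a⁻¹ := fun o => by group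
  have h2 := quad' h.le h.nrm h.cen h.ex h.nine hy.2 (mul_mem (mul_mem ha hx.2) (inv_mem ha))
    (fun o ho => h.ab _ hy.1 _ (h.cm _ hy.1 o ho))
    (fun o ho => e o ▸ (h.ab _ hx.1 _ (h.cm _ hx.1 _ (h.nrm _ (inv_mem ha) o ho))).conj a)
    (fun o ho => by simpa [mul_assoc] using (h1 o ho).conj a) (h.nrm a ha o ho)
  rw [e] at h2
  simpa [mul_assoc] using h2

theorem Qs.ax (h : Qs A O J) {v x y : G} (hv : v ∈ O) (h1 : ∀ o ∈ O, ∃ k : ℕ, o * (v ^ k)⁻¹ ∈ J) (hx : x ∈ J ⊓ A)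
    (hy : y ∈ J ⊓ A) (h2 : x * v ≠ v * x) (h3 : ∀ m : ℕ, x ^ m * y * v ≠ v * (x ^ m * y)) : False := by
  have c0 : ∀ j ∈ J ⊓ A, j * v * j⁻¹ * v⁻¹ ∈ O := fun j hj => mul_mem (h.nrm j hj.2 v hv) (inv_mem hv)
  have c1 : ∀ j ∈ J ⊓ A, ∀ o ∈ O, ∃ k : ℕ, j * o * j⁻¹ * o⁻¹ = (j * v * j⁻¹ * v⁻¹) ^ k := fun j hj o ho => by
    obtain ⟨k, hk⟩ := h1 o ho
    obtain ⟨u, hu, rfl⟩ : ∃ u ∈ J, o = u * v ^ k := ⟨_, hk, by simp⟩
    refine ⟨k, ?_⟩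
    rw [← mul_assoc, (h.ab j hj.1 u hu).eq, mul_assoc u, mul_assoc u, ← conj_pow, ← inv_mul_cancel_right (j * v * j⁻¹) v,
      Commute.mul_pow ((h.cen _).1 (c0 j hj) v hv), ← mul_assoc, (h.ab u hu _ (pow_mem (h.cm j hj.1 v hv) k)).eq]
    group
  obtain ⟨a, ha, h4⟩ : ∃ a ∈ A, a * (x * v * x⁻¹ * v⁻¹) * a⁻¹ ∉ J := by
    by_contra! k
    exact h2 (mul_inv_eq_iff_eq_mul.1 (mul_inv_eq_one.1 (h.esc _ k)))
  have key : ∀ j ∈ J ⊓ A, a⁻¹ * (j * v * j⁻¹ * v⁻¹) * a⁻¹⁻¹ ∈ J → j * v = v * j := fun j hj k => by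
    have k1 := h.sw ha hx hj (fun o ho => by
      obtain ⟨l, hl⟩ := c1 j hj o ho
      rw [hl, ← conj_pow]
      exact (h.ab _ hx.1 _ k).pow_right l) hv
    obtain ⟨l, hl⟩ := h1 _ (h.nrm a ha _ (c0 x hx))
    have k2 := (h.ab j hj.1 _ hl).inv_right.mul_right k1
    rw [mul_inv_rev, inv_inv, inv_mul_cancel_right] at k2
    rw [← pw3 (h.ex v hv) (k := l) fun e => h4 (by simpa [e] using hl)]
    exact k2.pow_right l
  obtain ⟨k, hk⟩ := h1 _ (h.nrm _ (inv_mem ha) _ (c0 x hx))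
  obtain ⟨l, hl⟩ := h1 _ (h.nrm _ (inv_mem ha) _ (c0 y hy))
  by_cases e : v ^ k = 1
  · exact h2 (key x hx (by simpa [e] using hk))
  have c2 : ∀ m : ℕ, a⁻¹ * (x ^ m * y * v * (x ^ m * y)⁻¹ * v⁻¹) * a⁻¹⁻¹ * (v ^ (k * m + l))⁻¹ ∈ J := fun m => by
    induction m with
    | zero => simpa using hl
    | succ m ih =>
      have m1 := mul_mem (pow_mem hx m) hy
      have m2 := h.nrm _ (inv_mem ha) _ (c0 _ m1)
      have m3 := h.nrm _ (inv_mem ha) _ (c0 _ hx)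
      have m4 : x ^ (m + 1) * y * v * (x ^ (m + 1) * y)⁻¹ * v⁻¹ =
          x ^ m * y * v * (x ^ m * y)⁻¹ * v⁻¹ * (x * v * x⁻¹ * v⁻¹) := by
        rw [← mul_assoc, ← mul_assoc, ← mul_assoc, ← (h.ab _ hx.1 _ (h.cm _ m1.1 v hv)).eq]
        group
      rw [m4, ← conj_mul, show k * (m + 1) + l = k * m + l + k by ring, pow_add, mul_inv_rev (v ^ _), mul_assoc,
        ← mul_assoc _ (v ^ k)⁻¹,
        (h.cen _).1 (mul_mem m3 (inv_mem (pow_mem hv k))) _ (inv_mem (pow_mem hv _)), ← mul_assoc]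
      exact mul_mem ih hk
  have c3 := c2 (k * (2 * l))
  rw [pow_add v, pow_mul v, pow_mul (v ^ k), pw3 (h.ex v hv) e, ← pow_add, show 2 * l + l = 3 * l by ring,
    pow_mul v, h.ex v hv, one_pow, inv_one, mul_one] at c3
  exact h3 _ (key _ (mul_mem (pow_mem hx _) hy) c3)

theorem Qs.ce (h : Qs A O J) {z : G} (hz : z ∈ O ⊓ J) (h0 : z ≠ 1) (h1 : ∀ o ∈ O ⊓ J, ∃ k : ℕ, o = z ^ k)
    (h2 : ∀ w ∈ O, w ∉ J → (∃ x ∈ J ⊓ A, x * w ≠ w * x) ∧ ∃ y ∈ J ⊓ A, y * w = w * y ∧ y ∉ O) : False := by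
  obtain ⟨a, ha, h3⟩ : ∃ a ∈ A, a * z * a⁻¹ ∉ J := by
    by_contra! k
    exact h0 (h.esc _ k)
  have h4 := h.nrm a ha z hz.1
  have h5 := h.nrm _ (inv_mem ha) z hz.1
  have c0 : ∀ j ∈ J ⊓ A, ∀ o ∈ O, ∃ k : ℕ, j * o * j⁻¹ * o⁻¹ = z ^ k := fun j hj o ho =>
    h1 _ ⟨O.mul_mem (h.nrm j hj.2 o ho) (inv_mem ho), h.cm j hj.1 o ho⟩
  obtain ⟨⟨y, hy, h6⟩, -⟩ := h2 _ h4 h3
  obtain ⟨-, x, hx, h7, h8⟩ := h2 _ h5 fun e => h3 (by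
    obtain ⟨k, hk⟩ := h1 _ ⟨h5, e⟩
    have k1 : (a * z * a⁻¹) ^ k = z := by rw [conj_pow, ← hk]; group
    rw [← pw3 (h.ex _ h4) (k := k) (by rwa [k1]), k1]
    exact pow_mem hz.2 k)
  obtain ⟨o, ho, h9⟩ : ∃ o ∈ O, x * o ≠ o * x := by
    by_contra! k
    exact h8 ((h.cen x).2 k)
  have k1 := h.sw ha hx hy (fun o ho => by
    obtain ⟨l, hl⟩ := c0 y hy o ho
    rw [hl, ← conj_pow]
    exact Commute.pow_right h7 l) ho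
  obtain ⟨l, hl⟩ := c0 x hx o ho
  refine h6 ?_
  rw [← pw3 (h.ex z hz.1) (k := l) fun e => h9 (mul_inv_eq_iff_eq_mul.1 (mul_inv_eq_one.1 (hl.trans e))), ← hl, ← conj_pow]
  exact k1.pow_right l

open Cfsg.Agent.H776.Co (P) in
/-- **a centric subgroup whose normaliser is maximal and has no elements of order nine** -/
theorem three_of [Finite G] (hA : Mx A) (h2 : 2 ∣ Nat.card G) (φ : P →* G) (hφ : Function.Injective φ) (hO : O ≤ A)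
    (hr : O ≤ φ.range) (hn : ∀ s ∈ A, ∀ o ∈ O, s * o * s⁻¹ ∈ O) (hc : ∀ z, (∀ u ∈ O, z * u = u * z) → z ∈ O)
    (h9 : ∀ a ∈ A, ∀ k : ℕ, a ^ 3 ^ k = 1 → a ^ 3 = 1) : False := by
  have pg : ∀ U : Subgroup G, U ≤ φ.range → U ≠ ⊤ := fun U hU => ne_top_of_pgroup Nat.prime_three Nat.prime_two (by decide) h2
    ((H776.Co.P.isPGroup_P.of_surjective φ.rangeRestrict φ.rangeRestrict_surjective).to_le hU)
  have c1 : ∀ x : P, (∀ o ∈ O.comap φ, x * o = o * x) → ∀ u ∈ O, φ x * u = u * φ x := fun x hx u hu => by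
    obtain ⟨o, rfl⟩ := hr hu
    rw [← map_mul, hx o hu, map_mul]
  have hz : φ (OP.mm 1 0 0 0 0 0) ∈ O := hc _ (c1 _ fun o _ => OP.w1_comm OP.z_mem o)
  have z1 : φ (OP.mm 1 0 0 0 0 0) ≠ 1 := fun e => OP.z_ne (hφ (e.trans φ.map_one.symm))
  have hcO : centralizer (O : Set G) ≤ O := fun u hu => hc u fun o ho => (mem_centralizer_iff.1 hu o ho).symm
  have hP : OP.Hp (O.comap φ) (A.comap φ) :=
    ⟨comap_mono hO, fun y hy => by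
      obtain ⟨k, hk⟩ := H776.Co.P.isPGroup_P y
      exact hφ (by rw [map_pow, h9 _ hy k (by rw [← map_pow, hk, map_one]), map_one]),
    fun x hx => hc _ (c1 x hx), fun x hx => hA (centralizer (O : Set G))
      (fun e => z1 (mem_bot.1 (e ▸ mem_centralizer_iff.2 fun o ho => (c1 _ (fun o _ => OP.w1_comm OP.z_mem o) o ho).symm)))
      (pg _ (hcO.trans hr)) (fun s hs u => (mem_normalizer_iff.1 (cent_norm hn hs) u).1) _ fun u hu => by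
        obtain ⟨v, rfl⟩ := hr (hcO hu)
        refine mem_centralizer_iff.2 fun o ho => ?_
        rw [← map_inv, ← map_mul, ← map_mul]
        exact (c1 _ (hx v fun o ho => hφ (by rw [map_mul, map_mul, mem_centralizer_iff.1 hu _ ho])) o ho).symm⟩
  have ab : ∀ a ∈ H776.Co.A.map φ, ∀ b ∈ H776.Co.A.map φ, Commute a b := by
    rintro _ ⟨a, ha, rfl⟩ _ ⟨b, hb, rfl⟩
    exact Commute.map (H776.Co.A_comm ha hb) φ
  have esc : ∀ u, (∀ a ∈ A, a * u * a⁻¹ ∈ H776.Co.A.map φ) → u = 1 := fun u hu => by_contra fun h0 => by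
    let U : Subgroup G := ⨅ a ∈ A, (H776.Co.A.map φ).comap (MulAut.conj a).toMonoidHom
    have m : ∀ x, x ∈ U ↔ ∀ a ∈ A, a * x * a⁻¹ ∈ H776.Co.A.map φ := fun x => by simp only [U, mem_iInf]; rfl
    have hU : U ≤ H776.Co.A.map φ := fun x hx => by simpa using (m x).1 hx 1 (one_mem _)
    exact hP.not_le fun j hj => hA.cent (U := U) (fun e => h0 (mem_bot.1 (e ▸ (m u).2 hu)))
      (pg _ (hU.trans (map_le_range _ _))) (fun s hs x hx => (m _).2 fun a ha => by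
        simpa [mul_assoc] using (m x).1 hx _ (mul_mem ha hs)) fun x hx => ab _ ⟨j, hj, rfl⟩ x (hU hx)
  have hcm := hP.comm fun k a ha b hb => hφ (by
    rw [map_mul, map_mul, ← mul_inv_eq_iff_eq_mul, ← mul_inv_eq_one]
    refine esc _ fun s hs => ?_
    obtain ⟨a', e1⟩ := hr (hn s hs _ ha)
    obtain ⟨b', e2⟩ := hr (hn s hs _ hb)
    refine ⟨_, k a' (mem_comap.2 (e1 ▸ hn s hs _ ha)) b' (mem_comap.2 (e2 ▸ hn s hs _ hb)), ?_⟩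
    simp only [map_mul, map_inv, e1, e2]
    group)
  have hQ : Qs A O (H776.Co.A.map φ) := ⟨hO, hn, fun a => ⟨fun ha => by
      obtain ⟨a, rfl⟩ := hr ha
      exact c1 a (hcm a ha), hc a⟩, fun a ha => by
      obtain ⟨a, rfl⟩ := hr ha
      rw [← map_pow, hP.ex a (hP.le ha), map_one], fun a ha k => h9 a ha 2 ((pow_mul a 3 3).trans k), ab, by
      rintro _ ⟨j, hj, rfl⟩ o ho
      obtain ⟨o, rfl⟩ := hr ho
      exact ⟨_, mul_mem hj (H776.Co.A_conj (inv_mem hj) o), by simp [mul_assoc]⟩, esc⟩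
  have mJ : ∀ x, φ x ∈ H776.Co.A.map φ ↔ x ∈ H776.Co.A := fun x => mem_map_iff_mem hφ
  rcases hP.main hcm fun k => z1 (esc _ fun s hs => by
    obtain ⟨a, e⟩ := hr (hn s hs _ hz)
    exact ⟨a, k (mem_comap.2 (e ▸ hn s hs _ hz)), e⟩) with ⟨v, hv, k1, x, hx, y, hy, k2, k3⟩ | ⟨k1, k2⟩
  · refine hQ.ax hv (fun o ho => ?_) ⟨(mJ x).2 hx.1, hx.2⟩ ⟨(mJ y).2 hy.1, hy.2⟩
      (fun e => k2 (hφ (by simpa using e))) fun m e => k3 m (hφ (by simpa using e))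
    obtain ⟨o, rfl⟩ := hr ho
    obtain ⟨k, hk⟩ := k1 o ho
    exact ⟨k, _, hk, by simp⟩
  · refine hQ.ce ⟨hz, (mJ _).2 (OP.mm_mem ..)⟩ z1 (fun o ho => ?_) fun w hw h0 => ?_
    · obtain ⟨o, h3, rfl⟩ := ho.2
      obtain ⟨k, -, hk⟩ := OP.w1_eq (k1 o ⟨ho.1, h3⟩)
      exact ⟨k, by rw [hk, map_pow]⟩
    · obtain ⟨w, rfl⟩ := hr hw
      obtain ⟨⟨x, hx, k3⟩, y, hy, k4, k5⟩ := k2 w hw (mt (mJ w).2 h0)
      exact ⟨⟨_, ⟨(mJ x).2 hx.1, hx.2⟩, fun e => k3 (hφ (by simpa using e))⟩, _, ⟨(mJ y).2 hy.1, hy.2⟩,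
        by rw [← map_mul, k4, map_mul], fun e => k5 (k1 y ⟨e, hy.1⟩)⟩

end Cfsg.Agent.N2.Sp1.Od
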