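import Cfsg.Agent.N2.Sp1.Sieve
import Cfsg.Agent.N2.Sp.GHS

/-!
# N2 (S3519), sporadic rows: the exact sieve for HS (helper45; generated by notes/N2/sp45/emit.py.txt)
-/

set_option autoImplicit false

namespace Cfsg.Agent.N2.Sp1.HS

open Cfsg Cfsg.Agent.FP3 Cfsg.Agent.TAB.Eng Cfsg.Agent.TAB.Use Cfsg.Agent.N2.Sp Cfsg.Agent.N2.Sp.HS

/-- the solutions -/
def SOL : List (List ℕ) := [
  [1, 0, 1, 0, 0, 0, 0, 0, 0, 0, 0, 0, 0, 0, 0, 0, 0, 0, 0, 0, 0],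
  [1, 1, 0, 0, 0, 0, 0, 0, 0, 0, 0, 0, 0, 0, 0, 0, 0, 0, 0, 0, 0],
  [1, 0, 1, 0, 2, 0, 0, 0, 0, 0, 0, 0, 0, 0, 0, 0, 0, 0, 0, 0, 0],
  [1, 0, 3, 0, 0, 0, 0, 0, 0, 0, 0, 0, 0, 0, 0, 0, 0, 0, 0, 0, 0],
  [1, 1, 0, 0, 2, 0, 0, 0, 0, 0, 0, 0, 0, 0, 0, 0, 0, 0, 0, 0, 0],
  [1, 1, 2, 0, 0, 0, 0, 0, 0, 0, 0, 0, 0, 0, 0, 0, 0, 0, 0, 0, 0],
  [1, 2, 1, 0, 0, 0, 0, 0, 0, 0, 0, 0, 0, 0, 0, 0, 0, 0, 0, 0, 0],
  [1, 3, 0, 0, 0, 0, 0, 0, 0, 0, 0, 0, 0, 0, 0, 0, 0, 0, 0, 0, 0],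
  [1, 0, 0, 0, 0, 0, 0, 0, 4, 0, 0, 0, 0, 0, 0, 0, 0, 0, 0, 0, 0],
  [1, 0, 0, 0, 0, 0, 0, 4, 0, 0, 0, 0, 0, 0, 0, 0, 0, 0, 0, 0, 0],
  [1, 0, 1, 0, 0, 0, 6, 0, 0, 0, 0, 0, 0, 0, 0, 0, 0, 0, 0, 0, 0],
  [1, 0, 3, 0, 4, 0, 0, 0, 0, 0, 0, 0, 0, 0, 0, 0, 0, 0, 0, 0, 0],
  [1, 0, 5, 0, 2, 0, 0, 0, 0, 0, 0, 0, 0, 0, 0, 0, 0, 0, 0, 0, 0],
  [1, 0, 7, 0, 0, 0, 0, 0, 0, 0, 0, 0, 0, 0, 0, 0, 0, 0, 0, 0, 0],
  [1, 2, 1, 0, 4, 0, 0, 0, 0, 0, 0, 0, 0, 0, 0, 0, 0, 0, 0, 0, 0],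
  [1, 2, 3, 0, 2, 0, 0, 0, 0, 0, 0, 0, 0, 0, 0, 0, 0, 0, 0, 0, 0],
  [1, 2, 5, 0, 0, 0, 0, 0, 0, 0, 0, 0, 0, 0, 0, 0, 0, 0, 0, 0, 0],
  [1, 4, 1, 0, 2, 0, 0, 0, 0, 0, 0, 0, 0, 0, 0, 0, 0, 0, 0, 0, 0],
  [1, 4, 3, 0, 0, 0, 0, 0, 0, 0, 0, 0, 0, 0, 0, 0, 0, 0, 0, 0, 0],
  [1, 6, 1, 0, 0, 0, 0, 0, 0, 0, 0, 0, 0, 0, 0, 0, 0, 0, 0, 0, 0],
  [1, 0, 0, 8, 0, 0, 0, 0, 0, 0, 0, 0, 0, 0, 0, 0, 0, 0, 0, 0, 0],
  [1, 0, 5, 0, 0, 0, 0, 0, 4, 0, 0, 0, 0, 0, 0, 0, 0, 0, 0, 0, 0],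
  [1, 5, 0, 0, 0, 0, 0, 0, 4, 0, 0, 0, 0, 0, 0, 0, 0, 0, 0, 0, 0],
  [1, 0, 3, 8, 0, 0, 0, 0, 0, 0, 0, 0, 0, 0, 0, 0, 0, 0, 0, 0, 0],
  [1, 3, 0, 8, 0, 0, 0, 0, 0, 0, 0, 0, 0, 0, 0, 0, 0, 0, 0, 0, 0],
  [1, 0, 1, 0, 1, 0, 13, 0, 0, 0, 0, 0, 0, 0, 0, 0, 0, 0, 0, 0, 0],
  [1, 0, 1, 0, 3, 0, 11, 0, 0, 0, 0, 0, 0, 0, 0, 0, 0, 0, 0, 0, 0],
  [1, 0, 1, 0, 5, 0, 9, 0, 0, 0, 0, 0, 0, 0, 0, 0, 0, 0, 0, 0, 0],
  [1, 0, 3, 0, 0, 0, 12, 0, 0, 0, 0, 0, 0, 0, 0, 0, 0, 0, 0, 0, 0],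
  [1, 0, 3, 0, 2, 0, 10, 0, 0, 0, 0, 0, 0, 0, 0, 0, 0, 0, 0, 0, 0],
  [1, 0, 5, 0, 1, 0, 9, 0, 0, 0, 0, 0, 0, 0, 0, 0, 0, 0, 0, 0, 0],
  [1, 0, 7, 0, 8, 0, 0, 0, 0, 0, 0, 0, 0, 0, 0, 0, 0, 0, 0, 0, 0],
  [1, 0, 11, 0, 4, 0, 0, 0, 0, 0, 0, 0, 0, 0, 0, 0, 0, 0, 0, 0, 0],
  [1, 0, 15, 0, 0, 0, 0, 0, 0, 0, 0, 0, 0, 0, 0, 0, 0, 0, 0, 0, 0],
  [1, 4, 1, 0, 1, 0, 9, 0, 0, 0, 0, 0, 0, 0, 0, 0, 0, 0, 0, 0, 0],
  [1, 4, 7, 0, 4, 0, 0, 0, 0, 0, 0, 0, 0, 0, 0, 0, 0, 0, 0, 0, 0],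
  [1, 4, 11, 0, 0, 0, 0, 0, 0, 0, 0, 0, 0, 0, 0, 0, 0, 0, 0, 0, 0],
  [1, 8, 3, 0, 4, 0, 0, 0, 0, 0, 0, 0, 0, 0, 0, 0, 0, 0, 0, 0, 0],
  [1, 8, 7, 0, 0, 0, 0, 0, 0, 0, 0, 0, 0, 0, 0, 0, 0, 0, 0, 0, 0],
  [1, 12, 3, 0, 0, 0, 0, 0, 0, 0, 0, 0, 0, 0, 0, 0, 0, 0, 0, 0, 0],
  [1, 0, 9, 8, 0, 0, 0, 0, 0, 0, 0, 0, 0, 0, 0, 0, 0, 0, 0, 0, 0],
  [1, 9, 0, 8, 0, 0, 0, 0, 0, 0, 0, 0, 0, 0, 0, 0, 0, 0, 0, 0, 0],
  [1, 0, 0, 0, 0, 0, 0, 15, 9, 0, 0, 0, 0, 0, 0, 0, 0, 0, 0, 0, 0],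
  [1, 0, 3, 0, 0, 0, 28, 0, 0, 0, 0, 0, 0, 0, 0, 0, 0, 0, 0, 0, 0],
  [1, 0, 3, 0, 4, 0, 24, 0, 0, 0, 0, 0, 0, 0, 0, 0, 0, 0, 0, 0, 0],
  [1, 0, 3, 0, 8, 0, 20, 0, 0, 0, 0, 0, 0, 0, 0, 0, 0, 0, 0, 0, 0],
  [1, 0, 3, 0, 12, 0, 16, 0, 0, 0, 0, 0, 0, 0, 0, 0, 0, 0, 0, 0, 0],
  [1, 0, 7, 0, 2, 0, 22, 0, 0, 0, 0, 0, 0, 0, 0, 0, 0, 0, 0, 0, 0],
  [1, 0, 7, 0, 6, 0, 18, 0, 0, 0, 0, 0, 0, 0, 0, 0, 0, 0, 0, 0, 0],
  [1, 0, 7, 0, 10, 0, 14, 0, 0, 0, 0, 0, 0, 0, 0, 0, 0, 0, 0, 0, 0],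
  [1, 0, 11, 0, 0, 0, 20, 0, 0, 0, 0, 0, 0, 0, 0, 0, 0, 0, 0, 0, 0],
  [1, 0, 11, 0, 4, 0, 16, 0, 0, 0, 0, 0, 0, 0, 0, 0, 0, 0, 0, 0, 0],
  [1, 0, 15, 0, 2, 0, 14, 0, 0, 0, 0, 0, 0, 0, 0, 0, 0, 0, 0, 0, 0],
  [1, 0, 19, 0, 12, 0, 0, 0, 0, 0, 0, 0, 0, 0, 0, 0, 0, 0, 0, 0, 0],
  [1, 0, 27, 0, 4, 0, 0, 0, 0, 0, 0, 0, 0, 0, 0, 0, 0, 0, 0, 0, 0],
  [1, 4, 1, 0, 1, 0, 25, 0, 0, 0, 0, 0, 0, 0, 0, 0, 0, 0, 0, 0, 0],
  [1, 4, 1, 0, 5, 0, 21, 0, 0, 0, 0, 0, 0, 0, 0, 0, 0, 0, 0, 0, 0],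
  [1, 4, 1, 0, 9, 0, 17, 0, 0, 0, 0, 0, 0, 0, 0, 0, 0, 0, 0, 0, 0],
  [1, 4, 5, 0, 3, 0, 19, 0, 0, 0, 0, 0, 0, 0, 0, 0, 0, 0, 0, 0, 0],
  [1, 4, 5, 0, 7, 0, 15, 0, 0, 0, 0, 0, 0, 0, 0, 0, 0, 0, 0, 0, 0],
  [1, 4, 9, 0, 1, 0, 17, 0, 0, 0, 0, 0, 0, 0, 0, 0, 0, 0, 0, 0, 0],
  [1, 8, 3, 0, 0, 0, 20, 0, 0, 0, 0, 0, 0, 0, 0, 0, 0, 0, 0, 0, 0],
  [1, 8, 3, 0, 4, 0, 16, 0, 0, 0, 0, 0, 0, 0, 0, 0, 0, 0, 0, 0, 0],
  [1, 8, 7, 0, 2, 0, 14, 0, 0, 0, 0, 0, 0, 0, 0, 0, 0, 0, 0, 0, 0],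
  [1, 8, 11, 0, 12, 0, 0, 0, 0, 0, 0, 0, 0, 0, 0, 0, 0, 0, 0, 0, 0],
  [1, 8, 19, 0, 4, 0, 0, 0, 0, 0, 0, 0, 0, 0, 0, 0, 0, 0, 0, 0, 0],
  [1, 12, 1, 0, 1, 0, 17, 0, 0, 0, 0, 0, 0, 0, 0, 0, 0, 0, 0, 0, 0],
  [1, 16, 11, 0, 4, 0, 0, 0, 0, 0, 0, 0, 0, 0, 0, 0, 0, 0, 0, 0, 0],
  [1, 0, 5, 0, 10, 0, 0, 24, 0, 0, 0, 0, 0, 0, 0, 0, 0, 0, 0, 0, 0],
  [1, 0, 15, 0, 0, 0, 0, 0, 24, 0, 0, 0, 0, 0, 0, 0, 0, 0, 0, 0, 0],
  [1, 0, 15, 0, 0, 0, 0, 24, 0, 0, 0, 0, 0, 0, 0, 0, 0, 0, 0, 0, 0],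
  [1, 10, 5, 0, 0, 0, 0, 24, 0, 0, 0, 0, 0, 0, 0, 0, 0, 0, 0, 0, 0],
  [1, 0, 0, 35, 0, 0, 0, 0, 9, 0, 0, 0, 0, 0, 0, 0, 0, 0, 0, 0, 0],
  [1, 0, 3, 32, 12, 0, 0, 0, 0, 0, 0, 0, 0, 0, 0, 0, 0, 0, 0, 0, 0],
  [1, 0, 15, 32, 0, 0, 0, 0, 0, 0, 0, 0, 0, 0, 0, 0, 0, 0, 0, 0, 0],
  [1, 12, 3, 32, 0, 0, 0, 0, 0, 0, 0, 0, 0, 0, 0, 0, 0, 0, 0, 0, 0],
  [1, 0, 25, 0, 0, 0, 0, 0, 24, 0, 0, 0, 0, 0, 0, 0, 0, 0, 0, 0, 0],
  [1, 0, 15, 20, 0, 0, 0, 0, 24, 0, 0, 0, 0, 0, 0, 0, 0, 0, 0, 0, 0],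
  [1, 0, 15, 20, 0, 0, 0, 24, 0, 0, 0, 0, 0, 0, 0, 0, 0, 0, 0, 0, 0],
  [1, 15, 0, 20, 0, 0, 0, 0, 24, 0, 0, 0, 0, 0, 0, 0, 0, 0, 0, 0, 0],
  [1, 15, 0, 20, 0, 0, 0, 24, 0, 0, 0, 0, 0, 0, 0, 0, 0, 0, 0, 0, 0],
  [1, 0, 7, 0, 6, 0, 50, 0, 0, 0, 0, 0, 0, 0, 0, 0, 0, 0, 0, 0, 0],
  [1, 0, 7, 0, 14, 0, 42, 0, 0, 0, 0, 0, 0, 0, 0, 0, 0, 0, 0, 0, 0],
  [1, 0, 15, 0, 2, 0, 46, 0, 0, 0, 0, 0, 0, 0, 0, 0, 0, 0, 0, 0, 0],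
  [1, 0, 15, 0, 10, 0, 38, 0, 0, 0, 0, 0, 0, 0, 0, 0, 0, 0, 0, 0, 0],
  [1, 0, 15, 0, 18, 0, 30, 0, 0, 0, 0, 0, 0, 0, 0, 0, 0, 0, 0, 0, 0],
  [1, 0, 23, 0, 6, 0, 34, 0, 0, 0, 0, 0, 0, 0, 0, 0, 0, 0, 0, 0, 0],
  [1, 0, 23, 0, 14, 0, 26, 0, 0, 0, 0, 0, 0, 0, 0, 0, 0, 0, 0, 0, 0],
  [1, 0, 31, 0, 2, 0, 30, 0, 0, 0, 0, 0, 0, 0, 0, 0, 0, 0, 0, 0, 0],
  [1, 8, 3, 0, 0, 0, 52, 0, 0, 0, 0, 0, 0, 0, 0, 0, 0, 0, 0, 0, 0],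
  [1, 8, 11, 0, 4, 0, 40, 0, 0, 0, 0, 0, 0, 0, 0, 0, 0, 0, 0, 0, 0],
  [1, 8, 11, 0, 12, 0, 32, 0, 0, 0, 0, 0, 0, 0, 0, 0, 0, 0, 0, 0, 0],
  [1, 8, 19, 0, 0, 0, 36, 0, 0, 0, 0, 0, 0, 0, 0, 0, 0, 0, 0, 0, 0],
  [1, 8, 19, 0, 8, 0, 28, 0, 0, 0, 0, 0, 0, 0, 0, 0, 0, 0, 0, 0, 0],
  [1, 8, 27, 0, 4, 0, 24, 0, 0, 0, 0, 0, 0, 0, 0, 0, 0, 0, 0, 0, 0],
  [1, 8, 27, 0, 28, 0, 0, 0, 0, 0, 0, 0, 0, 0, 0, 0, 0, 0, 0, 0, 0],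
  [1, 8, 43, 0, 12, 0, 0, 0, 0, 0, 0, 0, 0, 0, 0, 0, 0, 0, 0, 0, 0],
  [1, 16, 15, 0, 2, 0, 30, 0, 0, 0, 0, 0, 0, 0, 0, 0, 0, 0, 0, 0, 0],
  [1, 24, 27, 0, 12, 0, 0, 0, 0, 0, 0, 0, 0, 0, 0, 0, 0, 0, 0, 0, 0],
  [1, 0, 0, 50, 0, 0, 0, 0, 24, 0, 0, 0, 0, 0, 0, 0, 0, 0, 0, 0, 0],
  [1, 0, 15, 0, 0, 0, 0, 32, 32, 0, 0, 0, 0, 0, 0, 0, 0, 0, 0, 0, 0],
  [1, 0, 15, 0, 0, 0, 0, 48, 16, 0, 0, 0, 0, 0, 0, 0, 0, 0, 0, 0, 0],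
  [1, 0, 15, 0, 0, 0, 0, 64, 0, 0, 0, 0, 0, 0, 0, 0, 0, 0, 0, 0, 0],
  [1, 0, 3, 32, 0, 0, 60, 0, 0, 0, 0, 0, 0, 0, 0, 0, 0, 0, 0, 0, 0],
  [1, 0, 3, 32, 12, 0, 48, 0, 0, 0, 0, 0, 0, 0, 0, 0, 0, 0, 0, 0, 0],
  [1, 0, 15, 32, 6, 0, 42, 0, 0, 0, 0, 0, 0, 0, 0, 0, 0, 0, 0, 0, 0],
  [1, 0, 15, 32, 18, 0, 30, 0, 0, 0, 0, 0, 0, 0, 0, 0, 0, 0, 0, 0, 0],
  [1, 0, 27, 32, 0, 0, 36, 0, 0, 0, 0, 0, 0, 0, 0, 0, 0, 0, 0, 0, 0],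
  [1, 0, 27, 32, 36, 0, 0, 0, 0, 0, 0, 0, 0, 0, 0, 0, 0, 0, 0, 0, 0],
  [1, 0, 51, 32, 12, 0, 0, 0, 0, 0, 0, 0, 0, 0, 0, 0, 0, 0, 0, 0, 0],
  [1, 12, 9, 32, 9, 0, 33, 0, 0, 0, 0, 0, 0, 0, 0, 0, 0, 0, 0, 0, 0],
  [1, 24, 27, 32, 12, 0, 0, 0, 0, 0, 0, 0, 0, 0, 0, 0, 0, 0, 0, 0, 0],
  [1, 0, 25, 0, 0, 0, 50, 0, 24, 0, 0, 0, 0, 0, 0, 0, 0, 0, 0, 0, 0],
  [1, 25, 50, 0, 0, 0, 0, 0, 24, 0, 0, 0, 0, 0, 0, 0, 0, 0, 0, 0, 0],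
  [1, 50, 25, 0, 0, 0, 0, 0, 24, 0, 0, 0, 0, 0, 0, 0, 0, 0, 0, 0, 0],
  [1, 0, 15, 80, 0, 0, 0, 0, 24, 0, 0, 0, 0, 0, 0, 0, 0, 0, 0, 0, 0],
  [1, 0, 23, 0, 14, 0, 90, 0, 0, 0, 0, 0, 0, 0, 0, 0, 0, 0, 0, 0, 0],
  [1, 0, 39, 0, 6, 0, 82, 0, 0, 0, 0, 0, 0, 0, 0, 0, 0, 0, 0, 0, 0],
  [1, 16, 31, 0, 10, 0, 70, 0, 0, 0, 0, 0, 0, 0, 0, 0, 0, 0, 0, 0, 0],
  [1, 16, 47, 0, 18, 0, 46, 0, 0, 0, 0, 0, 0, 0, 0, 0, 0, 0, 0, 0, 0],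
  [1, 32, 39, 0, 6, 0, 50, 0, 0, 0, 0, 0, 0, 0, 0, 0, 0, 0, 0, 0, 0],
  [1, 0, 9, 80, 9, 0, 45, 0, 0, 0, 0, 0, 0, 0, 0, 0, 0, 0, 0, 0, 0],
  [1, 0, 27, 80, 36, 0, 0, 0, 0, 0, 0, 0, 0, 0, 0, 0, 0, 0, 0, 0, 0],
  [1, 0, 63, 80, 0, 0, 0, 0, 0, 0, 0, 0, 0, 0, 0, 0, 0, 0, 0, 0, 0],
  [1, 36, 27, 80, 0, 0, 0, 0, 0, 0, 0, 0, 0, 0, 0, 0, 0, 0, 0, 0, 0],
  [1, 0, 15, 0, 10, 0, 70, 0, 64, 0, 0, 0, 0, 0, 0, 0, 0, 0, 0, 0, 0],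
  [1, 0, 15, 0, 10, 0, 70, 64, 0, 0, 0, 0, 0, 0, 0, 0, 0, 0, 0, 0, 0],
  [1, 0, 15, 0, 30, 0, 50, 64, 0, 0, 0, 0, 0, 0, 0, 0, 0, 0, 0, 0, 0],
  [1, 0, 35, 0, 0, 0, 60, 64, 0, 0, 0, 0, 0, 0, 0, 0, 0, 0, 0, 0, 0],
  [1, 20, 5, 0, 15, 0, 55, 64, 0, 0, 0, 0, 0, 0, 0, 0, 0, 0, 0, 0, 0],
  [1, 20, 25, 0, 5, 0, 45, 0, 64, 0, 0, 0, 0, 0, 0, 0, 0, 0, 0, 0, 0],
  [1, 20, 25, 0, 5, 0, 45, 64, 0, 0, 0, 0, 0, 0, 0, 0, 0, 0, 0, 0, 0],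
  [1, 40, 35, 0, 20, 0, 0, 64, 0, 0, 0, 0, 0, 0, 0, 0, 0, 0, 0, 0, 0],
  [1, 24, 27, 128, 12, 0, 0, 0, 0, 0, 0, 0, 0, 0, 0, 0, 0, 0, 0, 0, 0],
  [1, 0, 0, 125, 0, 0, 0, 0, 99, 0, 0, 0, 0, 0, 0, 0, 0, 0, 0, 0, 0],
  [1, 0, 0, 125, 0, 0, 0, 45, 54, 0, 0, 0, 0, 0, 0, 0, 0, 0, 0, 0, 0],
  [1, 0, 15, 80, 0, 0, 0, 0, 144, 0, 0, 0, 0, 0, 0, 0, 0, 0, 0, 0, 0],
  [1, 0, 15, 80, 0, 0, 0, 48, 96, 0, 0, 0, 0, 0, 0, 0, 0, 0, 0, 0, 0],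
  [1, 0, 15, 80, 0, 0, 0, 96, 48, 0, 0, 0, 0, 0, 0, 0, 0, 0, 0, 0, 0],
  [1, 0, 15, 80, 0, 0, 0, 144, 0, 0, 0, 0, 0, 0, 0, 0, 0, 0, 0, 0, 0],
  [1, 0, 27, 224, 36, 0, 0, 0, 0, 0, 0, 0, 0, 0, 0, 0, 0, 0, 0, 0, 0],
  [1, 0, 15, 0, 10, 0, 230, 64, 0, 0, 0, 0, 0, 0, 0, 0, 0, 0, 0, 0, 0],
  [1, 40, 35, 0, 0, 0, 180, 0, 64, 0, 0, 0, 0, 0, 0, 0, 0, 0, 0, 0, 0],
  [1, 40, 35, 0, 0, 0, 180, 64, 0, 0, 0, 0, 0, 0, 0, 0, 0, 0, 0, 0, 0],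
  [1, 0, 45, 80, 0, 0, 90, 72, 72, 0, 0, 0, 0, 0, 0, 0, 0, 0, 0, 0, 0],
  [1, 0, 45, 80, 0, 0, 90, 144, 0, 0, 0, 0, 0, 0, 0, 0, 0, 0, 0, 0, 0],
  [1, 90, 45, 80, 0, 0, 0, 0, 144, 0, 0, 0, 0, 0, 0, 0, 0, 0, 0, 0, 0],
  [1, 90, 45, 80, 0, 0, 0, 72, 72, 0, 0, 0, 0, 0, 0, 0, 0, 0, 0, 0, 0],
  [1, 90, 45, 80, 0, 0, 0, 144, 0, 0, 0, 0, 0, 0, 0, 0, 0, 0, 0, 0, 0],
  [1, 0, 39, 128, 6, 0, 210, 0, 0, 0, 0, 0, 0, 0, 0, 0, 0, 0, 0, 0, 0],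
  [1, 120, 75, 320, 60, 0, 0, 0, 384, 0, 0, 0, 0, 0, 0, 0, 0, 0, 0, 0, 0]]

/-- the certificates -/
def CL : List Ct := [
  (2, 281, [2], [[], [], [(1, 21)]]),
  (3, 246, [3], [[], [(1, 21)]]),
  (4, 223, [2, 4], [[], [], [(1, 21)], [], [(1, 22)]]),
  (5, 208, [5], [[], [], [(1, 21)]]),
  (6, 195, [6], [[], [(4, 12), (5, 19)], [(1, 12), (5, 21)], [(1, 21)]]),
  (7, 186, [], [[(1, 0)]]),
  (8, 177, [2, 8], [[], [(5, 8), (7, 13)], [(1, 21)], [], [(1, 22)]]),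
  (9, 171, [9], [[], [(1, 21)]]),
  (10, 165, [10], [[], [(5, 0), (4, 6), (8, 10), (7, 11), (9, 17), (9, 21)], [(5, 0), (2, 6), (1, 10), (1, 11)],
    [(1, 10), (9, 21)], [(1, 21)]]),
  (11, 160, [], [[(1, 0)]]),
  (12, 155, [2, 3, 12], [[], [(2, 20), (2, 21), (1, 22)], [(4, 0), (4, 1), (8, 3), (4, 4), (8, 5), (1, 20), (1,
    21)], [(8, 0), (11, 1), (1, 3), (2, 4), (10, 5)], [(5, 8), (11, 14)], [(1, 23)]]),
  (14, 147, [7], [[(1, 21)], [], []]),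
  (15, 144, [15], [[], [(12, 0), (1, 1), (13, 2), (10, 3)], [(7, 0), (14, 20)], [(1, 21)]]),
  (16, 141, [16], [[], [(13, 8), (15, 13)], [(4, 8), (14, 16)], [(2, 8), (15, 16)], [(1, 21)]]),
  (18, 136, [18], [[], [(15, 0), (6, 1), (16, 3), (1, 13)], [(11, 0), (8, 1), (6, 2), (17, 3)], [(1, 21)]]),
  (20, 131, [2, 5, 20], [[], [(4, 14)], [(10, 0), (4, 1), (8, 2), (14, 3), (18, 5), (2, 10), (1, 21)], [(16, 0), (8,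
    10), (4, 11), (1, 22)], [(5, 0), (5, 3), (17, 10), (1, 11)], [(1, 14)], [(1, 23)]]),
  (21, 129, [7], [[(1, 21)], []]),
  (22, 127, [11], [[(1, 21)], [], []]),
  (24, 123, [24], [[], [(13, 0), (7, 1), (23, 2), (13, 3), (4, 4), (13, 8), (22, 13), (1, 14)], [(7, 0), (3, 1), (8,
    3), (13, 4), (11, 8), (2, 13), (23, 14)], [(1, 0), (21, 1), (8, 3), (19, 4)], [(1, 8), (23, 21)], [(1, 21)]]),
  (25, 122, [25], [[], [(1, 14)], [(1, 21)]]),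
  (28, 117, [7], [[(1, 21)], [], [], [], []]),
  (30, 114, [30], [[], [(27, 0), (18, 1), (26, 3), (8, 4), (3, 5), (1, 7)], [(10, 0), (19, 1), (25, 2), (3, 3), (20,
    5), (13, 10), (29, 11)], [(25, 0), (1, 1), (25, 2), (27, 3)], [(1, 14)], [(1, 21)]]),
  (32, 112, [32], [[], [(27, 0), (1, 6), (29, 8), (31, 13)], [(12, 0), (30, 3), (3, 8), (1, 13)], [(6, 0), (31, 3)],
    [(1, 21)]]),
  (33, 111, [], [[(1, 15)], []]),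
  (35, 109, [], [[(1, 16)], [], []]),
  (36, 108, [2, 36], [[], [(8, 0), (6, 1), (3, 3), (2, 4), (29, 8), (31, 10), (1, 13)], [(12, 0), (12, 1), (8, 3),
    (12, 4), (16, 8), (4, 19), (1, 21)], [(4, 0), (6, 1), (5, 3), (10, 4)], [(23, 0), (2, 3), (35, 4)], [(1, 22)]]),
  (40, 104, [5, 10, 40], [[], [(1, 0), (32, 1), (21, 2), (39, 3), (5, 4), (17, 5), (9, 7), (20, 10), (20, 11), (37,
    21), (1, 22)], [(29, 0), (28, 1), (9, 2), (11, 3), (5, 4), (33, 5), (1, 7)], [(32, 0), (16, 10), (8, 11), (1,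
    21)], [(20, 0), (15, 1), (15, 2), (5, 3), (37, 10), (1, 11)], [(1, 14)], [(1, 23)]]),
  (42, 102, [7], [[(1, 21)], [], [], []]),
  (44, 101, [11], [[(1, 21)], [], [], [], []]),
  (45, 100, [45], [[], [(43, 0), (1, 1), (37, 2), (39, 3)], [(1, 14)], [(1, 21)]]),
  (48, 98, [48], [[], [(30, 0), (39, 1), (47, 2), (5, 3), (42, 4), (5, 5), (2, 6)], [(14, 0), (35, 1), (37, 3), (18,
    4), (41, 8), (4, 16), (47, 21)], [(34, 0), (37, 1), (35, 3), (30, 4)], [(2, 8), (47, 16)], [(1, 21)]]),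
  (50, 97, [50], [[], [(14, 0), (48, 1), (21, 2), (2, 3), (8, 4), (5, 5)], [(11, 0), (47, 1), (27, 2), (3, 3), (39,
    5), (29, 7), (47, 10), (1, 11)], [(1, 14)], [(1, 21)]]),
  (55, 94, [], [[(1, 12)], [], []]),
  (56, 93, [7], [[(1, 21)], [], [], [], []]),
  (60, 91, [2, 60], [[], [(11, 0), (7, 1), (3, 2), (12, 3), (16, 4), (14, 5), (6, 6), (4, 7), (59, 9)], [(56, 0),
    (40, 2), (40, 3), (40, 5), (20, 6), (40, 7), (24, 10), (32, 11), (22, 16), (53, 18), (1, 21)], [(34, 0), (30,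
    1), (50, 2), (59, 3), (50, 5), (40, 6), (50, 7), (54, 10), (2, 11)], [(50, 0), (30, 3), (54, 10), (2, 11), (59,
    16)], [(55, 0), (30, 1), (30, 2), (15, 3), (57, 10), (1, 11)], [(1, 14)], [(1, 22)]]),
  (63, 89, [7], [[(1, 21)], []]),
  (64, 89, [64], [[], [(52, 0), (2, 3), (7, 8), (2, 13), (63, 21)], [(12, 0), (62, 3), (3, 8), (1, 13)], [(6, 0),
    (63, 3)], [(1, 21)]]),
  (66, 88, [11], [[(1, 21)], [], [], []]),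
  (70, 86, [7], [[(1, 21)], [], [], [], []]),
  (72, 86, [72], [[], [(61, 0), (36, 1), (11, 2), (64, 3), (6, 4), (62, 5)], [(57, 0), (63, 1), (24, 3), (33, 4),
    (6, 5), (1, 8), (3, 13), (71, 15)], [(29, 0), (51, 1), (16, 3), (13, 4), (70, 5)], [(68, 8), (71, 19)], [(1,
    21)]]),
  (75, 84, [75], [[], [(4, 0), (1, 1), (61, 2), (63, 3)], [(1, 14)], [(1, 21)]]),
  (77, 84, [], [[(1, 0)]]),
  (80, 83, [80], [[], [(19, 0), (73, 1), (43, 2), (11, 3), (18, 4), (35, 5), (65, 6), (1, 7)], [(66, 0), (56, 5),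
    (76, 6), (68, 10), (4, 11), (14, 14), (1, 19)], [(59, 0), (50, 1), (50, 2), (15, 3), (14, 5), (79, 6)], [(35,
    0), (30, 1), (30, 2), (65, 3), (77, 10), (1, 11)], [(1, 14)], [(1, 21)]]),
  (84, 81, [7], [[(1, 21)], [], [], [], [], []]),
  (88, 80, [11], [[(1, 21)], [], [], [], []]),
  (90, 79, [90], [[], [(25, 0), (73, 1), (19, 2), (75, 3), (12, 5), (33, 6), (27, 10), (21, 11), (17, 14), (89,
    17)], [(16, 0), (70, 1), (70, 2), (30, 3), (68, 5), (7, 6), (3, 10), (89, 11)], [(7, 0), (1, 1), (73, 2), (75,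
    3)], [(1, 14)], [(1, 21)]]),
  (96, 78, [48, 96], [[], [(88, 0), (28, 3), (64, 4), (64, 8), (86, 13), (1, 21)], [(46, 0), (63, 1), (15, 3), (70,
    4), (93, 8), (95, 13)], [(46, 0), (21, 1), (23, 3), (34, 4)], [(6, 0), (95, 3)], [(1, 22)]]),
  (99, 77, [], [[(1, 15)], []]),
  (100, 77, [2, 50, 100], [[], [(6, 0), (66, 1), (14, 2), (78, 3), (68, 4), (26, 10), (58, 11), (68, 12), (8, 13),
    (92, 14), (11, 21), (1, 22)], [(8, 0), (76, 1), (44, 2), (8, 3), (88, 4), (84, 10), (72, 11), (88, 12), (1,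
    21)], [(40, 0), (60, 1), (60, 2), (80, 3), (24, 10), (92, 11), (99, 13), (1, 14)], [(20, 0), (55, 1), (55, 2),
    (65, 3), (97, 10), (1, 11)], [(1, 14)], [(1, 23)]]),
  (105, 76, [7], [[(1, 21)], [], [], []]),
  (110, 74, [11], [[(1, 21)], [], [], [], []]),
  (112, 74, [7], [[(1, 21)], [], [], [], []]),
  (120, 72, [30, 120], [[], [(36, 0), (98, 1), (63, 2), (18, 3), (76, 4), (75, 6), (3, 7)], [(60, 0), (90, 1), (74,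
    2), (50, 3), (74, 4), (57, 5), (52, 6), (17, 8), (48, 10), (24, 11), (1, 21)], [(99, 0), (51, 1), (83, 2), (77,
    3), (83, 4), (9, 5), (112, 6), (2, 8), (114, 10), (2, 11)], [(42, 0), (112, 2), (112, 4), (111, 5), (116, 6),
    (1, 8)], [(85, 0), (45, 3), (117, 10), (1, 11)], [(1, 14)], [(1, 22)]]),
  (125, 71, [], [[(4, 0), (124, 3)], [], []]),
  (126, 71, [7], [[(1, 21)], [], [], []]),
  (128, 71, [128], [[], [(124, 0), (127, 1), (1, 3)], [(59, 0), (125, 2), (56, 3), (124, 4)], [(6, 0), (127, 3)],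
    [(1, 21)]]),
  (132, 70, [11], [[(1, 21)], [], [], [], [], []]),
  (140, 69, [7], [[(1, 21)], [], [], [], [], [], []]),
  (144, 68, [144], [[], [(57, 0), (5, 1), (132, 2), (27, 3), (25, 4)], [(51, 0), (126, 1), (26, 3), (27, 4), (5, 8),
    (143, 14)], [(139, 0), (126, 1), (50, 3), (115, 4)], [(6, 0), (143, 3)], [(1, 21)]]),
  (150, 67, [150], [[], [(132, 0), (136, 1), (99, 2), (57, 3), (68, 4), (75, 5)], [(80, 0), (93, 1), (105, 2), (39,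
    3), (20, 4), (68, 5), (3, 10), (149, 11)], [(19, 0), (1, 1), (121, 2), (123, 3)], [(1, 14)], [(1, 21)]]),
  (154, 67, [7], [[(1, 21)], [], []]),
  (160, 66, [5, 160], [[], [(14, 0), (142, 1), (24, 2), (106, 3), (126, 4), (140, 5), (156, 6), (64, 10), (32, 11),
    (1, 21)], [(27, 0), (129, 1), (156, 2), (89, 3), (157, 4), (2, 5)], [(136, 0), (127, 1), (64, 2), (36, 3), (1,
    4), (130, 5), (1, 6)], [(140, 0), (135, 1), (135, 2), (85, 3), (157, 10), (1, 11)], [(1, 14)], [(1, 22)]]),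
  (165, 65, [11], [[(1, 21)], [], [], []]),
  (168, 65, [7], [[(1, 21)], [], [], [], [], []]),
  (175, 64, [], [[(1, 16)], [], []]),
  (176, 64, [11], [[(1, 21)], [], [], [], [], []]),
  (180, 63, [2, 180], [[], [(115, 0), (92, 1), (102, 2), (36, 3), (130, 4), (38, 5), (55, 6), (172, 7), (54, 8),
    (155, 9), (132, 10), (76, 11), (179, 12)], [(48, 0), (84, 1), (122, 2), (118, 3), (20, 4), (118, 5), (60, 6),
    (52, 7), (1, 21)], [(67, 0), (150, 1), (18, 2), (92, 3), (108, 4), (6, 5), (41, 6), (172, 8), (6, 10), (178,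
    11)], [(117, 0), (150, 1), (18, 2), (127, 3), (48, 4), (146, 5), (1, 6)], [(150, 0), (90, 3), (162, 10), (6,
    11), (179, 12)], [(145, 0), (120, 1), (120, 2), (135, 3), (177, 10), (1, 11)], [(1, 14)], [(1, 22)]]),
  (192, 62, [192], [[], [(78, 0), (58, 1), (178, 2), (180, 3), (58, 4), (6, 5), (116, 8), (46, 12), (191, 18)],
    [(11, 0), (46, 1), (89, 2), (186, 3), (125, 4), (3, 5)], [(3, 0), (190, 1), (1, 8)], [(2, 0), (191, 1)], [(6,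
    8), (191, 12)], [(1, 21)]]),
  (198, 61, [11], [[(1, 21)], [], [], []]),
  (200, 61, [200], [[], [(77, 0), (126, 1), (17, 2), (107, 3), (195, 4), (123, 5), (9, 6), (5, 7), (5, 8), (199,
    10)], [(157, 0), (24, 1), (115, 2), (84, 3), (55, 4), (4, 5), (15, 10), (195, 11), (161, 14), (1, 17)], [(150,
    0), (150, 1), (56, 2), (74, 3), (106, 4), (36, 10), (188, 11), (199, 18)], [(51, 0), (145, 1), (138, 2), (127,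
    3), (193, 4)], [(150, 0), (145, 1), (145, 2), (5, 3), (197, 10), (1, 11)], [(1, 14)], [(1, 21)]]),
  (210, 60, [7], [[(1, 21)], [], [], [], [], []]),
  (220, 59, [11], [[(1, 21)], [], [], [], [], [], [], []]),
  (224, 59, [7], [[(1, 21)], [], [], [], [], []]),
  (225, 59, [225], [[], [(34, 0), (1, 1), (181, 2), (183, 3)], [(1, 14)], [(1, 21)]]),
  (231, 58, [], [[(1, 15)], []]),
  (240, 57, [240], [[], [(176, 0), (19, 1), (57, 2), (207, 3), (88, 4), (205, 5), (213, 6), (64, 7), (239, 8)],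
    [(81, 0), (93, 1), (32, 2), (51, 3), (118, 4), (49, 5), (222, 6), (2, 7)], [(72, 0), (187, 1), (104, 2), (149,
    3), (149, 4), (134, 5), (167, 6), (6, 10), (238, 11)], [(42, 0), (195, 1), (76, 2), (114, 3), (183, 4), (108,
    5), (239, 6)], [(149, 0), (193, 10), (16, 11), (1, 13)], [(55, 0), (30, 1), (30, 2), (105, 3), (90, 4), (90, 5),
    (237, 10), (1, 11)], [(1, 14)], [(1, 21)]]),
  (250, 57, [], [[(216, 0), (226, 1), (56, 2), (25, 3), (130, 4)], [], [], [], []]),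
  (252, 57, [7], [[(1, 21)], [], [], [], [], [], []]),
  (256, 56, [256], [[], [(252, 0), (128, 8), (194, 12), (1, 15)], [(3, 0), (254, 1), (1, 8)], [(2, 0), (255, 1)],
    [(6, 8), (255, 12)], [(1, 21)]]),
  (264, 56, [11], [[(1, 21)], [], [], [], [], [], []]),
  (275, 55, [], [[(1, 12)], [], []]),
  (280, 55, [7], [[(1, 21)], [], [], [], [], [], [], []]),
  (288, 54, [288], [[], [(132, 0), (56, 1), (232, 2), (232, 3), (278, 4), (14, 6), (4, 8), (1, 17)], [(132, 0),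
    (272, 1), (284, 2), (284, 3), (61, 4), (1, 6)], [(3, 0), (286, 1), (1, 8)], [(2, 0), (287, 1)], [(6, 8), (287,
    12)], [(1, 21)]]),
  (300, 53, [2, 300], [[], [(173, 0), (9, 1), (231, 2), (95, 3), (130, 4), (27, 5), (151, 6), (83, 7), (24, 8), (2,
    10)], [(155, 0), (250, 1), (260, 2), (31, 3), (24, 4), (215, 5), (27, 6), (50, 7), (263, 8), (1, 21)], [(114,
    0), (175, 1), (190, 2), (247, 3), (188, 4), (291, 5), (179, 6), (6, 10), (298, 11)], [(99, 0), (252, 1), (146,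
    2), (117, 3), (6, 4), (234, 5), (1, 6)], [(31, 0), (117, 1), (8, 2), (151, 3), (11, 4)], [(115, 0), (90, 1),
    (90, 2), (75, 3), (297, 10), (1, 11)], [(1, 14)], [(1, 22)]]),
  (308, 53, [7], [[(1, 21)], [], [], [], [], []]),
  (315, 53, [7], [[(1, 21)], [], [], []]),
  (320, 52, [320], [[], [(172, 0), (221, 1), (177, 2), (57, 3), (84, 4), (226, 5), (1, 6), (32, 7)], [(178, 0), (13,
    1), (152, 2), (33, 3), (139, 4), (65, 5), (1, 7)], [(297, 0), (91, 1), (115, 2), (104, 3), (83, 4), (315, 5)],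
    [(309, 0), (240, 1), (240, 2), (80, 3), (273, 10), (16, 11), (1, 13)], [(40, 0), (35, 1), (35, 2), (165, 3),
    (317, 10), (1, 11)], [(1, 14)], [(1, 21)]]),
  (330, 52, [11], [[(1, 21)], [], [], [], [], []]),
  (336, 51, [7], [[(1, 21)], [], [], [], [], [], []]),
  (350, 51, [7], [[(1, 21)], [], [], [], []]),
  (352, 51, [11], [[(1, 21)], [], [], [], [], []]),
  (360, 50, [360], [[], [(205, 0), (60, 1), (210, 2), (247, 3), (302, 4), (315, 5), (242, 6), (256, 7), (1, 10)],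
    [(129, 0), (342, 1), (37, 2), (9, 3), (176, 4), (110, 5), (264, 6), (37, 7)], [(24, 0), (328, 1), (322, 2), (11,
    3), (264, 4), (306, 5), (242, 6), (128, 7), (6, 10), (358, 11)], [(120, 0), (180, 3), (158, 10), (84, 11), (50,
    13), (70, 14), (1, 19)], [(29, 0), (240, 1), (240, 2), (240, 3), (313, 10), (16, 11), (1, 13)], [(295, 0), (330,
    1), (330, 2), (285, 3), (357, 10), (1, 11)], [(1, 14)], [(1, 21)]]),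
  (375, 50, [], [[(187, 0), (372, 1), (222, 2), (215, 3)], [], [], []]),
  (384, 49, [384], [[], [(100, 0), (196, 1), (228, 2), (332, 3), (124, 4), (40, 5), (380, 8), (1, 11)], [(28, 0),
    (239, 1), (57, 2), (83, 3), (127, 4), (10, 5)], [(3, 0), (382, 1), (1, 8)], [(2, 0), (383, 1)], [(6, 8), (383,
    12)], [(1, 21)]]),
  (385, 49, [], [[(1, 12)], [], []]),
  (396, 49, [11], [[(1, 21)], [], [], [], [], [], []]),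
  (400, 49, [400], [[], [(11, 0), (54, 1), (74, 2), (103, 3), (126, 4), (382, 5), (46, 6), (377, 8), (398, 9), (3,
    10)], [(224, 0), (356, 1), (120, 2), (10, 3), (242, 4), (163, 5), (2, 6), (399, 8)], [(320, 0), (158, 1), (147,
    2), (147, 3), (241, 4), (12, 5)], [(251, 0), (69, 1), (128, 2), (25, 3), (379, 4)], [(225, 0), (220, 1), (220,
    2), (105, 3), (397, 10), (1, 11)], [(1, 14)], [(1, 21)]]),
  (420, 48, [7], [[(1, 21)], [], [], [], [], [], [], [], []]),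
  (440, 47, [11], [[(1, 21)], [], [], [], [], [], [], []]),
  (448, 47, [7], [[(1, 21)], [], [], [], [], []]),
  (450, 47, [450], [[], [(159, 0), (253, 1), (216, 2), (267, 3), (383, 4), (150, 5)], [(325, 0), (243, 1), (252, 2),
    (402, 3), (397, 4), (377, 5), (169, 7), (3, 10), (449, 11)], [(79, 0), (1, 1), (361, 2), (363, 3)], [(1, 14)],
    [(1, 21)]]),
  (462, 46, [7], [[(1, 21)], [], [], []]),
  (480, 46, [480], [[], [(88, 0), (233, 1), (297, 2), (377, 3), (70, 4), (377, 5), (9, 6), (450, 7), (1, 8)], [(375,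
    0), (309, 1), (19, 2), (277, 3), (21, 4), (458, 5), (411, 6), (477, 7)], [(156, 0), (109, 1), (244, 2), (13, 3),
    (23, 4), (162, 5), (473, 6), (6, 10), (478, 11)], [(152, 0), (293, 1), (146, 2), (350, 3), (125, 4), (78, 5),
    (479, 6)], [(389, 0), (240, 3), (433, 10), (16, 11), (1, 13)], [(175, 0), (90, 1), (90, 2), (345, 3), (477, 10),
    (1, 11)], [(1, 14)], [(1, 21)]]),
  (495, 45, [11], [[(1, 21)], [], [], []]),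
  (500, 45, [], [[(208, 0), (443, 1), (280, 2), (171, 3), (124, 4), (46, 5), (132, 6), (495, 7)], [], [], [], [],
    [], [], []]),
  (504, 45, [7], [[(1, 21)], [], [], [], [], [], []]),
  (512, 45, [], [[(67, 0), (1, 1), (206, 2), (33, 3), (272, 4), (1, 5)], [], [], [], [], []]),
  (525, 44, [7], [[(1, 21)], [], [], []]),
  (528, 44, [11], [[(1, 21)], [], [], [], [], [], []]),
  (550, 44, [11], [[(1, 21)], [], [], [], []]),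
  (560, 43, [7], [[(1, 21)], [], [], [], [], [], [], []]),
  (576, 43, [576], [[], [(167, 0), (322, 1), (73, 2), (506, 3), (218, 4), (523, 5), (573, 6)], [(128, 0), (517, 1),
    (503, 2), (537, 3), (569, 4), (570, 5)], [(3, 0), (574, 1), (1, 8)], [(2, 0), (575, 1)], [(6, 8), (575, 12)],
    [(1, 21)]]),
  (600, 42, [600], [[], [(70, 0), (583, 1), (295, 2), (63, 3), (64, 4), (465, 5), (248, 6), (577, 7), (484, 10),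
    (43, 11), (543, 12), (13, 13), (119, 14), (599, 17)], [(90, 0), (519, 1), (505, 2), (52, 3), (42, 4), (479, 5),
    (30, 6), (3, 7)], [(75, 0), (358, 1), (235, 2), (378, 3), (244, 4), (408, 5), (308, 6), (145, 7), (6, 10), (598,
    11)], [(61, 0), (210, 1), (210, 2), (570, 3), (119, 5), (599, 7), (18, 10), (594, 11), (1, 12)], [(269, 0),
    (360, 1), (360, 2), (120, 3), (553, 10), (16, 11), (1, 13)], [(130, 0), (285, 1), (285, 2), (45, 3), (597, 10),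
    (1, 11)], [(1, 14)], [(1, 21)]]),
  (616, 42, [7], [[(1, 21)], [], [], [], [], []]),
  (630, 42, [7], [[(1, 21)], [], [], [], [], []]),
  (640, 42, [640], [[], [(275, 0), (164, 1), (577, 2), (272, 3), (334, 4), (311, 5), (633, 6), (20, 7)], [(192, 0),
    (349, 1), (368, 2), (561, 3), (49, 4), (285, 5), (639, 7)], [(554, 0), (336, 1), (523, 2), (45, 3), (293, 4),
    (618, 5)], [(69, 0), (400, 3), (593, 10), (16, 11), (1, 13)], [(285, 0), (200, 1), (200, 2), (145, 3), (637,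
    10), (1, 11)], [(1, 14)], [(1, 21)]]),
  (660, 41, [11], [[(1, 21)], [], [], [], [], [], [], [], []]),
  (672, 41, [7], [[(1, 21)], [], [], [], [], [], []]),
  (693, 41, [], [[(1, 15)], []]),
  (700, 40, [7], [[(1, 21)], [], [], [], [], [], [], []]),
  (704, 40, [11], [[(1, 21)], [], [], [], [], []]),
  (720, 40, [720], [[], [(12, 0), (159, 1), (387, 2), (151, 3), (148, 4), (319, 5), (423, 6), (116, 7), (709, 8),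
    (719, 9)], [(177, 0), (657, 1), (416, 2), (675, 3), (46, 4), (301, 5), (42, 6), (218, 7)], [(54, 0), (133, 1),
    (129, 2), (291, 3), (356, 4), (613, 5), (500, 6), (405, 7), (6, 10), (718, 11)], [(358, 0), (487, 1), (500, 2),
    (126, 3), (211, 4), (52, 5), (719, 6)], [(3, 0), (461, 1), (288, 2), (561, 3), (691, 4)], [(100, 0), (255, 1),
    (255, 2), (405, 3), (717, 10), (1, 11)], [(1, 14)], [(1, 21)]]),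
  (750, 39, [], [[(157, 0), (687, 1), (372, 2), (245, 3), (390, 4), (405, 5)], [], [], [], [], []]),
  (768, 39, [768], [[], [(340, 0), (196, 1), (84, 2), (332, 3), (748, 4), (88, 5), (764, 8), (1, 11)], [(472, 0),
    (623, 1), (21, 2), (659, 3), (379, 4), (22, 5)], [(3, 0), (766, 1), (1, 8)], [(2, 0), (767, 1)], [(6, 8), (767,
    12)], [(1, 21)]]),
  (770, 39, [7], [[(1, 21)], [], [], [], []]),
  (792, 39, [11], [[(1, 21)], [], [], [], [], [], []]),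
  (800, 39, [800], [[], [(536, 0), (285, 1), (684, 2), (195, 3), (165, 4), (117, 5), (491, 7), (791, 9), (798, 10)],
    [(540, 0), (261, 1), (480, 2), (521, 3), (525, 4), (469, 5), (3, 7)], [(755, 0), (469, 1), (47, 2), (374, 3),
    (195, 4), (777, 5)], [(69, 0), (160, 1), (160, 2), (720, 3), (753, 10), (16, 11), (1, 13)], [(305, 0), (60, 1),
    (60, 2), (145, 3), (797, 10), (1, 11)], [(1, 14)], [(1, 21)]]),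
  (825, 38, [11], [[(1, 21)], [], [], []]),
  (840, 38, [7], [[(1, 21)], [], [], [], [], [], [], [], []]),
  (875, 38, [], [[(1, 16)], [], []]),
  (880, 37, [11], [[(1, 21)], [], [], [], [], [], [], []]),
  (896, 37, [7], [[(1, 21)], [], [], [], [], []]),
  (900, 37, [2, 900], [[], [(755, 0), (765, 1), (726, 2), (368, 3), (196, 4), (426, 5), (745, 6), (239, 7), (408,
    9), (2, 10)], [(120, 0), (12, 1), (860, 2), (496, 3), (236, 4), (712, 5), (420, 6), (664, 7), (1, 21)], [(9, 0),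
    (805, 1), (800, 2), (752, 3), (353, 4), (686, 5), (524, 6), (6, 10), (898, 11)], [(79, 0), (70, 1), (621, 2),
    (168, 3), (733, 4), (4, 5), (1, 6)], [(1, 0), (279, 1), (428, 2), (445, 3), (869, 4)], [(790, 0), (465, 1),
    (465, 2), (825, 3), (897, 10), (1, 11)], [(1, 14)], [(1, 22)]]),
  (924, 37, [7], [[(1, 21)], [], [], [], [], [], []]),
  (960, 36, [960], [[], [(144, 0), (645, 1), (477, 2), (397, 3), (286, 4), (933, 5), (597, 6), (818, 7), (957, 8)],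
    [(510, 0), (18, 1), (451, 2), (794, 3), (445, 4), (389, 5), (579, 6), (947, 7)], [(729, 0), (676, 1), (618, 2),
    (660, 3), (689, 4), (745, 5), (191, 6), (6, 10), (958, 11)], [(555, 0), (180, 1), (138, 2), (653, 3), (723, 4),
    (955, 5), (959, 6)], [(149, 0), (720, 1), (720, 2), (720, 3), (913, 10), (16, 11), (1, 13)], [(70, 0), (225, 1),
    (225, 2), (45, 3), (957, 10), (1, 11)], [(1, 14)], [(1, 21)]]),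
  (990, 36, [11], [[(1, 21)], [], [], [], [], []]),
  (1000, 36, [], [[(664, 0), (794, 1), (865, 2), (68, 3), (167, 4), (943, 5), (431, 6), (985, 7)], [], [], [], [],
    [], [], []]),
  (1008, 36, [7], [[(1, 21)], [], [], [], [], [], []]),
  (1050, 35, [7], [[(1, 21)], [], [], [], [], []]),
  (1056, 35, [11], [[(1, 21)], [], [], [], [], [], []]),
  (1100, 35, [11], [[(1, 21)], [], [], [], [], [], [], []]),
  (1120, 35, [7], [[(1, 21)], [], [], [], [], [], [], []]),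
  (1125, 35, [], [[(487, 0), (1122, 1), (672, 2), (665, 3)], [], [], []]),
  (1152, 34, [1152], [[], [(35, 0), (48, 1), (983, 2), (696, 3), (72, 4), (1091, 5), (1, 6)], [(135, 0), (1032, 1),
    (955, 2), (1012, 3), (387, 4), (1139, 5)], [(3, 0), (1150, 1), (1, 8)], [(2, 0), (1151, 1)], [(6, 8), (1151,
    12)], [(1, 21)]]),
  (1155, 34, [7], [[(1, 21)], [], [], []]),
  (1200, 34, [1200], [[], [(82, 0), (480, 1), (39, 2), (930, 3), (709, 4), (177, 5), (815, 6), (995, 7), (1198,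
    10)], [(207, 0), (615, 1), (200, 2), (69, 3), (514, 4), (403, 5), (1038, 6), (38, 7)], [(630, 0), (223, 1),
    (1000, 2), (983, 3), (639, 4), (708, 5), (413, 6), (260, 7), (6, 10), (1198, 11)], [(426, 0), (351, 1), (402,
    2), (8, 3), (417, 4), (364, 5), (1199, 6)], [(869, 0), (960, 1), (960, 2), (720, 3), (1153, 10), (16, 11), (1,
    13)], [(655, 0), (810, 1), (810, 2), (945, 3), (1197, 10), (1, 11)], [(1, 14)], [(1, 21)]]),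
  (1232, 34, [7], [[(1, 21)], [], [], [], [], []]),
  (1260, 33, [7], [[(1, 21)], [], [], [], [], [], [], [], []]),
  (1280, 33, [1280], [[], [(1215, 0), (1070, 1), (760, 2), (1255, 3), (660, 4), (1190, 5), (780, 6), (1220, 7),
    (1265, 10), (5, 11), (255, 14), (1279, 17)], [(827, 0), (833, 1), (245, 2), (913, 3), (483, 4), (1096, 5), (13,
    6), (1279, 7)], [(905, 0), (715, 1), (907, 2), (576, 3), (139, 4), (1227, 5)], [(623, 0), (1099, 1), (133, 2),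
    (282, 3), (58, 4)], [(130, 0), (605, 1), (605, 2), (125, 3), (1277, 10), (1, 11)], [(1, 14)], [(1, 21)]]),
  (1320, 33, [11], [[(1, 21)], [], [], [], [], [], [], [], []]),
  (1344, 33, [7], [[(1, 21)], [], [], [], [], [], []]),
  (1375, 32, [], [[(1, 12)], [], []]),
  (1386, 32, [7], [[(1, 21)], [], [], []]),
  (1400, 32, [7], [[(1, 21)], [], [], [], [], [], [], []]),
  (1408, 32, [11], [[(1, 21)], [], [], [], [], []]),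
  (1440, 32, [1440], [[], [(1153, 0), (1334, 1), (702, 2), (1322, 3), (31, 4), (383, 5), (378, 6), (987, 7), (7,
    8)], [(702, 0), (1434, 1), (1363, 2), (946, 3), (429, 4), (485, 5), (435, 6), (1419, 7)], [(27, 0), (1342, 1),
    (334, 2), (274, 3), (449, 4), (159, 5), (647, 6), (6, 10), (1438, 11)], [(669, 0), (1398, 1), (254, 2), (331,
    3), (915, 4), (41, 5), (1439, 6)], [(1410, 0), (900, 1), (900, 2), (630, 3), (1422, 10), (6, 11), (1439, 12)],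
    [(715, 0), (630, 1), (630, 2), (1065, 3), (1437, 10), (1, 11)], [(1, 14)], [(1, 21)]]),
  (1500, 31, [], [[(959, 0), (28, 1), (855, 2), (1235, 3), (984, 4), (109, 5), (192, 6), (467, 7), (1499, 8)], [],
    [], [], [], [], [], [], []]),
  (1536, 31, [], [[(849, 0), (1411, 1), (542, 2), (635, 3), (284, 4), (731, 5), (8, 6)], [], [], [], [], [], []]),
  (1540, 31, [7], [[(1, 21)], [], [], [], [], [], [], []]),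
  (1575, 31, [7], [[(1, 21)], [], [], []]),
  (1584, 31, [11], [[(1, 21)], [], [], [], [], [], []]),
  (1600, 31, [1600], [[], [(607, 0), (580, 1), (219, 2), (1286, 3), (868, 4), (378, 5), (1555, 6), (122, 7), (245,
    8), (1598, 10)], [(550, 0), (721, 1), (550, 2), (1469, 3), (1077, 4), (1227, 5), (1590, 6), (1599, 7)], [(915,
    0), (1421, 1), (707, 2), (858, 3), (1223, 4), (17, 5)], [(469, 0), (400, 1), (400, 2), (720, 3), (1440, 4),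
    (1440, 5), (1553, 10), (16, 11), (1, 13)], [(1430, 0), (1325, 1), (1325, 2), (1445, 3), (90, 4), (90, 5), (1597,
    10), (1, 11)], [(1, 14)], [(1, 21)]]),
  (1650, 30, [11], [[(1, 21)], [], [], [], [], []]),
  (1680, 30, [7], [[(1, 21)], [], [], [], [], [], [], [], []]),
  (1750, 30, [7], [[(1, 21)], [], [], [], []]),
  (1760, 30, [11], [[(1, 21)], [], [], [], [], [], [], []]),
  (1792, 30, [7], [[(1, 21)], [], [], [], [], []]),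
  (1800, 30, [1800], [[], [(586, 0), (595, 1), (582, 2), (1400, 3), (1592, 4), (1286, 5), (1090, 6), (1170, 7), (35,
    9), (1799, 10)], [(1035, 0), (84, 1), (1090, 2), (1537, 3), (87, 4), (659, 5), (75, 6), (348, 7)], [(1500, 0),
    (1147, 1), (1255, 2), (485, 3), (156, 4), (687, 5), (638, 6), (443, 7), (6, 10), (1798, 11)], [(1096, 0), (739,
    1), (1037, 2), (969, 3), (274, 4), (694, 5), (1799, 6)], [(701, 0), (475, 1), (388, 2), (887, 3), (1713, 4)],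
    [(1720, 0), (1155, 1), (1155, 2), (765, 3), (1797, 10), (1, 11)], [(1, 14)], [(1, 21)]]),
  (1848, 29, [7], [[(1, 21)], [], [], [], [], [], []]),
  (1920, 29, [1920], [[], [(823, 0), (296, 1), (747, 2), (752, 3), (418, 4), (710, 5), (291, 6), (1716, 7), (19,
    8)], [(963, 0), (1761, 1), (1321, 2), (1569, 3), (215, 4), (1004, 5), (1521, 6), (1915, 7)], [(1107, 0), (1234,
    1), (790, 2), (1570, 3), (1061, 4), (1527, 5), (971, 6), (6, 10), (1918, 11)], [(1563, 0), (1332, 1), (1890, 2),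
    (1781, 3), (1131, 4), (187, 5), (1919, 6)], [(550, 0), (735, 1), (735, 2), (975, 3), (15, 10), (1915, 11),
    (1537, 14), (1, 17)], [(1810, 0), (1005, 1), (1005, 2), (1725, 3), (1917, 10), (1, 11)], [(1, 14)], [(1, 21)]]),
  (1925, 29, [], [[(1, 12)], [], []]),
  (1980, 29, [11], [[(1, 21)], [], [], [], [], [], [], [], []]),
  (2000, 29, [], [[(568, 0), (3, 1), (630, 2), (291, 3), (1529, 4), (1541, 5), (322, 6), (1995, 7)], [], [], [], [],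
    [], [], []]),
  (2016, 29, [7], [[(1, 21)], [], [], [], [], [], []]),
  (2100, 28, [7], [[(1, 21)], [], [], [], [], [], [], [], []]),
  (2112, 28, [11], [[(1, 21)], [], [], [], [], [], []])]

theorem okB : chkB D R nu O SOL CL = true := by decide +kernel

theorem okC : cov D.N 2143 (CL.map Prod.fst) = true := by decide +kernel

variable {K : Type} [Group K] [Finite K] {T : TD K D} {A : Subgroup K}

theorem vec (H : Sp.Hy T R nu) (hb : ¬ Good A) (h1 : A ≠ ⊤) (h0 : A ≠ ⊥) : ∃ v ∈ SOL, Vec T A v :=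
  bad H hb (res H hb h1) okB (mem_of_cov H.mass h0 (res H hb h1).1 okC)

end Cfsg.Agent.N2.Sp1.HS
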