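import Cfsg.Agent.N2.Sp1.Sieve
import Cfsg.Agent.N2.Sp.GJ2

/-!
# N2 (S3519), sporadic rows: the exact sieve for J2 (helper45; generated by notes/N2/sp45/emit.py.txt)
-/

set_option autoImplicit false

namespace Cfsg.Agent.N2.Sp1.J2

open Cfsg Cfsg.Agent.FP3 Cfsg.Agent.TAB.Eng Cfsg.Agent.TAB.Use Cfsg.Agent.N2.Sp Cfsg.Agent.N2.Sp.J2

/-- the solutions -/
def SOL : List (List ℕ) := [
  [1, 0, 1, 0, 0, 0, 0, 0, 0, 0, 0, 0, 0, 0, 0, 0],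
  [1, 1, 0, 0, 0, 0, 0, 0, 0, 0, 0, 0, 0, 0, 0, 0],
  [1, 0, 0, 2, 0, 0, 0, 0, 0, 0, 0, 0, 0, 0, 0, 0],
  [1, 0, 3, 0, 0, 0, 0, 0, 0, 0, 0, 0, 0, 0, 0, 0],
  [1, 1, 2, 0, 0, 0, 0, 0, 0, 0, 0, 0, 0, 0, 0, 0],
  [1, 2, 1, 0, 0, 0, 0, 0, 0, 0, 0, 0, 0, 0, 0, 0],
  [1, 3, 0, 0, 0, 0, 0, 0, 0, 0, 0, 0, 0, 0, 0, 0],
  [1, 0, 0, 0, 0, 0, 4, 0, 0, 0, 0, 0, 0, 0, 0, 0],
  [1, 0, 3, 2, 0, 0, 0, 0, 0, 0, 0, 0, 0, 0, 0, 0],
  [1, 3, 0, 2, 0, 0, 0, 0, 0, 0, 0, 0, 0, 0, 0, 0],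
  [1, 1, 0, 0, 0, 6, 0, 0, 0, 0, 0, 0, 0, 0, 0, 0],
  [1, 1, 2, 0, 0, 4, 0, 0, 0, 0, 0, 0, 0, 0, 0, 0],
  [1, 1, 6, 0, 0, 0, 0, 0, 0, 0, 0, 0, 0, 0, 0, 0],
  [1, 3, 0, 0, 0, 4, 0, 0, 0, 0, 0, 0, 0, 0, 0, 0],
  [1, 3, 4, 0, 0, 0, 0, 0, 0, 0, 0, 0, 0, 0, 0, 0],
  [1, 5, 2, 0, 0, 0, 0, 0, 0, 0, 0, 0, 0, 0, 0, 0],
  [1, 7, 0, 0, 0, 0, 0, 0, 0, 0, 0, 0, 0, 0, 0, 0],
  [1, 0, 0, 8, 0, 0, 0, 0, 0, 0, 0, 0, 0, 0, 0, 0],
  [1, 0, 5, 0, 0, 0, 4, 0, 0, 0, 0, 0, 0, 0, 0, 0],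
  [1, 5, 0, 0, 0, 0, 4, 0, 0, 0, 0, 0, 0, 0, 0, 0],
  [1, 0, 3, 8, 0, 0, 0, 0, 0, 0, 0, 0, 0, 0, 0, 0],
  [1, 3, 0, 8, 0, 0, 0, 0, 0, 0, 0, 0, 0, 0, 0, 0],
  [1, 0, 0, 5, 0, 0, 9, 0, 0, 0, 0, 0, 0, 0, 0, 0],
  [1, 3, 0, 0, 0, 12, 0, 0, 0, 0, 0, 0, 0, 0, 0, 0],
  [1, 3, 4, 0, 0, 8, 0, 0, 0, 0, 0, 0, 0, 0, 0, 0],
  [1, 3, 12, 0, 0, 0, 0, 0, 0, 0, 0, 0, 0, 0, 0, 0],
  [1, 7, 0, 0, 0, 8, 0, 0, 0, 0, 0, 0, 0, 0, 0, 0],
  [1, 0, 9, 8, 0, 0, 0, 0, 0, 0, 0, 0, 0, 0, 0, 0],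
  [1, 9, 0, 8, 0, 0, 0, 0, 0, 0, 0, 0, 0, 0, 0, 0],
  [1, 3, 0, 8, 0, 12, 0, 0, 0, 0, 0, 0, 0, 0, 0, 0],
  [1, 3, 12, 8, 0, 0, 0, 0, 0, 0, 0, 0, 0, 0, 0, 0],
  [1, 9, 6, 8, 0, 0, 0, 0, 0, 0, 0, 0, 0, 0, 0, 0],
  [1, 0, 0, 2, 24, 0, 0, 0, 0, 0, 0, 0, 0, 0, 0, 0],
  [1, 3, 0, 0, 0, 28, 0, 0, 0, 0, 0, 0, 0, 0, 0, 0],
  [1, 3, 8, 0, 0, 20, 0, 0, 0, 0, 0, 0, 0, 0, 0, 0],
  [1, 3, 16, 0, 0, 12, 0, 0, 0, 0, 0, 0, 0, 0, 0, 0],
  [1, 11, 0, 0, 0, 20, 0, 0, 0, 0, 0, 0, 0, 0, 0, 0],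
  [1, 0, 9, 8, 0, 18, 0, 0, 0, 0, 0, 0, 0, 0, 0, 0],
  [1, 9, 0, 8, 0, 18, 0, 0, 0, 0, 0, 0, 0, 0, 0, 0],
  [1, 9, 18, 8, 0, 0, 0, 0, 0, 0, 0, 0, 0, 0, 0, 0],
  [1, 0, 0, 5, 30, 0, 9, 0, 0, 0, 0, 0, 0, 0, 0, 0],
  [1, 3, 0, 0, 32, 12, 0, 0, 0, 0, 0, 0, 0, 0, 0, 0],
  [1, 3, 12, 0, 32, 0, 0, 0, 0, 0, 0, 0, 0, 0, 0, 0],
  [1, 0, 15, 20, 0, 0, 24, 0, 0, 0, 0, 0, 0, 0, 0, 0],
  [1, 3, 8, 0, 0, 52, 0, 0, 0, 0, 0, 0, 0, 0, 0, 0],
  [1, 3, 24, 0, 0, 36, 0, 0, 0, 0, 0, 0, 0, 0, 0, 0],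
  [1, 9, 18, 8, 0, 36, 0, 0, 0, 0, 0, 0, 0, 0, 0, 0],
  [1, 9, 36, 8, 0, 18, 0, 0, 0, 0, 0, 0, 0, 0, 0, 0],
  [1, 3, 0, 32, 0, 60, 0, 0, 0, 0, 0, 0, 0, 0, 0, 0],
  [1, 0, 27, 20, 60, 0, 0, 0, 0, 0, 0, 0, 0, 0, 0, 0],
  [1, 3, 24, 0, 128, 36, 0, 0, 0, 0, 0, 0, 0, 0, 0, 0]]

/-- the certificates -/
def CL : List Ct := [
  (2, 68, [2], [[], [], [(1, 16)]]),
  (3, 59, [3], [[], [(1, 16)]]),
  (4, 54, [2, 4], [[], [], [(1, 16)], [(1, 17)]]),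
  (5, 50, [5], [[], [(1, 16)]]),
  (6, 47, [6], [[], [(1, 6), (5, 16)], [(4, 1), (5, 2)], [(1, 16)]]),
  (7, 45, [], [[(1, 0)]]),
  (8, 43, [2, 8], [[], [(4, 0), (7, 9), (7, 16)], [(1, 16)], [(1, 17)]]),
  (9, 41, [9], [[], [(1, 16)]]),
  (10, 40, [10], [[], [(5, 0), (5, 3), (9, 4), (1, 16)], [(3, 0), (4, 1), (6, 2), (9, 3)], [(1, 16)]]),
  (12, 37, [2, 12], [[], [(8, 0), (6, 3), (1, 11)], [(11, 8), (1, 16)], [(10, 0), (11, 3)], [(1, 17)]]),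
  (14, 36, [7], [[(1, 16)], [], []]),
  (15, 35, [5, 15], [[], [(3, 4), (14, 16)], [(1, 6)], [(1, 17)]]),
  (16, 34, [16], [[], [(1, 0), (14, 6), (1, 7)], [(4, 0), (15, 9)], [(1, 16)]]),
  (18, 33, [18], [[], [(12, 0), (12, 2), (6, 4), (6, 5), (16, 9), (1, 12)], [(11, 0), (2, 2), (1, 4), (1, 5)], [(1,
    9)], [(1, 16)]]),
  (20, 32, [10, 20], [[], [(5, 0), (15, 1), (15, 3), (13, 4), (4, 16), (19, 17)], [(12, 0), (8, 1), (18, 4), (1,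
    16)], [(1, 4), (19, 17)], [(1, 17)]]),
  (21, 31, [7], [[(1, 16)], [], []]),
  (24, 30, [24], [[], [(2, 0), (9, 1), (21, 2), (3, 3), (1, 4), (6, 5), (1, 6)], [(23, 0), (23, 4), (4, 5), (23,
    7)], [(3, 0), (18, 5), (1, 7)], [(1, 5)], [(1, 16)]]),
  (25, 29, [], [[(21, 0), (24, 1)], []]),
  (27, 29, [27], [[], [(2, 6), (26, 13)], [(1, 16)]]),
  (28, 28, [7], [[(1, 16)], [], [], []]),
  (30, 28, [10, 30], [[], [(15, 0), (15, 1), (14, 4), (15, 5), (29, 6), (5, 16), (1, 17)], [(25, 0), (15, 1), (2,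
    2), (18, 3), (24, 4), (29, 5)], [(3, 4), (29, 16)], [(1, 6)], [(1, 17)]]),
  (32, 27, [32], [[], [(20, 0), (26, 2), (1, 3)], [(4, 0), (31, 9)], [(1, 16)]]),
  (35, 26, [], [[(1, 7)], []]),
  (36, 26, [2, 36], [[], [(34, 0), (10, 1), (27, 2), (35, 3), (30, 4), (28, 5), (1, 6)], [(24, 0), (4, 2), (4, 10),
    (1, 16)], [(3, 0), (35, 2)], [(1, 5)], [(1, 17)]]),
  (40, 25, [40], [[], [(9, 0), (26, 1), (3, 3), (18, 4), (9, 12), (39, 16)], [(4, 0), (16, 1), (28, 3), (33, 4), (1,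
    12)], [(1, 4), (39, 16)], [(1, 16)]]),
  (42, 25, [7], [[(1, 16)], [], [], [], []]),
  (45, 24, [45], [[], [(2, 6), (43, 10), (43, 13), (44, 15)], [(1, 6)], [(1, 13)], [(1, 16)]]),
  (48, 24, [16, 48], [[], [(42, 2), (39, 3), (15, 5), (3, 6), (1, 16)], [(20, 2), (9, 3), (38, 5), (46, 6), (1, 9),
    (2, 10)], [(20, 2), (5, 3), (38, 5), (46, 6), (47, 9), (47, 10)], [(1, 5)], [(34, 2), (3, 3), (47, 6)], [(1,
    17)]]),
  (50, 23, [50], [[], [(45, 0), (10, 1), (39, 2), (1, 3), (23, 4)], [(7, 4), (41, 7), (40, 10), (1, 11)], [(1, 13)],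
    [(1, 16)]]),
  (54, 23, [54], [[], [(22, 0), (48, 1), (16, 2), (16, 4), (50, 5), (4, 8), (52, 9), (53, 12)], [(2, 0), (51, 1),
    (53, 2), (53, 4), (1, 5)], [(52, 5), (53, 15)], [(1, 5)], [(1, 16)]]),
  (56, 23, [7], [[(1, 16)], [], [], []]),
  (60, 22, [2, 30, 60], [[], [(46, 0), (48, 1), (54, 2), (42, 3), (10, 4), (52, 5), (38, 6), (18, 7), (44, 9), (56,
    10), (2, 16), (4, 17)], [(39, 0), (22, 1), (31, 2), (51, 3), (1, 4), (48, 5), (3, 6), (39, 7), (1, 16)], [(32,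
    0), (32, 1), (44, 2), (54, 3), (22, 4), (50, 5), (28, 6), (10, 9), (4, 10), (59, 17)], [(20, 0), (53, 1), (14,
    2), (2, 3), (15, 4), (59, 5)], [(21, 0), (52, 1), (57, 2), (31, 3), (41, 4), (59, 6)], [(59, 1), (1, 3), (2, 9),
    (1, 10)], [(1, 1), (59, 3)], [(1, 18)]]),
  (63, 22, [7], [[(1, 16)], [], []]),
  (64, 22, [64], [[], [(63, 0), (4, 1), (59, 2), (63, 5)], [(4, 0), (63, 9)], [(1, 16)]]),
  (70, 21, [7], [[(1, 16)], [], [], [], []]),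
  (72, 21, [72], [[], [(60, 0), (3, 1), (6, 2), (8, 3), (71, 4), (66, 5)], [(14, 0), (69, 1), (26, 2), (7, 3), (58,
    5), (66, 6)], [(40, 2), (24, 3), (32, 5), (64, 6), (70, 9), (71, 10)], [(1, 5)], [(50, 2), (3, 3), (71, 6)],
    [(1, 16)]]),
  (75, 21, [75], [[], [(3, 0), (63, 1), (74, 2), (19, 3), (7, 4)], [(1, 6)], [(1, 13)], [(1, 16)]]),
  (80, 20, [80], [[], [(46, 0), (74, 1), (60, 2), (30, 3), (49, 4), (65, 8), (1, 10)], [(6, 0), (34, 1), (60, 2),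
    (39, 3), (78, 4), (79, 8)], [(9, 0), (11, 1), (10, 2), (1, 3)], [(1, 13)], [(1, 16)]]),
  (84, 20, [7], [[(1, 16)], [], [], [], [], [], []]),
  (90, 19, [90], [[], [(24, 0), (27, 1), (75, 2), (5, 3), (65, 4), (20, 5), (74, 9), (33, 10), (1, 16)], [(67, 0),
    (39, 1), (80, 2), (47, 3), (55, 4), (53, 5), (80, 9), (89, 10)], [(84, 0), (28, 1), (1, 2), (48, 3), (70, 4),
    (3, 5)], [(1, 0), (89, 1), (89, 3), (1, 9)], [(89, 1), (1, 3), (2, 9), (1, 10)], [(1, 1), (89, 3)], [(1, 16)]]),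
  (96, 19, [96], [[], [(28, 0), (89, 1), (15, 2), (13, 3), (1, 4), (2, 5), (21, 6)], [(92, 0), (1, 1), (44, 2), (21,
    3), (70, 5), (90, 6)], [(36, 2), (5, 3), (86, 5), (94, 6), (95, 9), (95, 10)], [(1, 5)], [(66, 2), (3, 3), (95,
    6)], [(1, 16)]]),
  (100, 19, [2, 100], [[], [(48, 0), (80, 1), (64, 2), (16, 3), (92, 4), (24, 6), (82, 10), (76, 11), (2, 13), (1,
    15)], [(12, 0), (20, 1), (16, 2), (4, 3), (4, 4), (88, 6), (60, 10), (12, 11), (1, 16)], [(66, 0), (60, 1), (63,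
    2), (97, 3)], [(1, 13)], [(1, 17)]]),
  (105, 18, [7], [[(1, 16)], [], [], [], []]),
  (108, 18, [2, 108], [[], [(92, 0), (4, 1), (64, 2), (54, 3), (8, 5), (58, 6), (104, 7), (92, 9), (7, 11), (107,
    12)], [(52, 0), (95, 1), (102, 2), (60, 3), (104, 5), (39, 6), (13, 7), (1, 16)], [(24, 2), (36, 3), (50, 5),
    (96, 6), (106, 9), (107, 13)], [(1, 5)], [(74, 2), (3, 3), (107, 6)], [(1, 17)]]),
  (112, 18, [7], [[(1, 16)], [], [], []]),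
  (120, 18, [120], [[], [(45, 0), (69, 1), (38, 2), (67, 3), (82, 4), (37, 5), (41, 6), (119, 8), (14, 9), (118,
    10)], [(71, 0), (58, 1), (86, 2), (24, 3), (43, 4), (28, 5), (3, 6), (1, 9)], [(36, 0), (7, 1), (108, 2), (53,
    3), (30, 4), (60, 5), (58, 6), (48, 9), (23, 10), (1, 13)], [(14, 0), (19, 1), (28, 2), (110, 3), (23, 4), (23,
    5)], [(78, 0), (75, 1), (54, 2), (45, 3), (75, 4), (119, 6)], [(119, 1), (1, 3), (2, 9), (1, 10)], [(1, 1),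
    (119, 3)], [(1, 16)]]),
  (126, 17, [7], [[(1, 16)], [], [], [], [], []]),
  (128, 17, [], [[(20, 0), (99, 1), (32, 2), (3, 5)], [], [], []]),
  (135, 17, [135], [[], [(111, 0), (71, 1), (98, 2), (81, 3), (14, 4)], [(1, 6)], [(1, 13)], [(1, 16)]]),
  (140, 17, [7], [[(1, 16)], [], [], [], [], []]),
  (144, 17, [144], [[], [(132, 0), (3, 1), (6, 2), (8, 3), (143, 4), (138, 5)], [(110, 0), (7, 1), (137, 2), (36,
    3), (10, 5), (45, 6)], [(28, 2), (111, 3), (50, 5), (10, 6), (1, 9), (143, 10)], [(1, 5)], [(98, 2), (3, 3),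
    (143, 6)], [(1, 16)]]),
  (150, 16, [150], [[], [(144, 0), (26, 1), (11, 2), (93, 3), (2, 4), (48, 5), (63, 6), (4, 7)], [(114, 0), (35, 1),
    (95, 2), (109, 3), (44, 4), (25, 5), (28, 6), (138, 9), (144, 10), (1, 11)], [(41, 0), (109, 1), (146, 2), (145,
    3), (142, 4), (122, 5), (149, 6)], [(1, 0), (149, 1), (149, 3), (1, 9)], [(149, 1), (1, 3), (2, 9), (1, 10)],
    [(1, 1), (149, 3)], [(1, 16)]]),
  (160, 16, [160], [[], [(17, 0), (34, 1), (125, 2), (63, 3), (39, 4), (154, 5)], [(64, 0), (50, 1), (146, 2), (129,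
    3), (18, 4), (1, 5)], [(19, 0), (21, 1), (20, 2), (1, 3)], [(1, 13)], [(1, 16)]]),
  (168, 16, [7], [[(1, 16)], [], [], [], [], [], []]),
  (175, 16, [], [[(1, 7)], [], []]),
  (180, 15, [2, 180], [[], [(79, 0), (48, 1), (93, 2), (7, 3), (79, 4), (62, 5), (102, 6), (16, 7), (10, 8), (179,
    9)], [(116, 0), (176, 1), (142, 2), (144, 3), (50, 4), (56, 5), (104, 6), (106, 7), (40, 8), (66, 9), (22, 10),
    (1, 16)], [(105, 0), (71, 1), (123, 2), (94, 3), (72, 4), (75, 5), (174, 6), (1, 8)], [(149, 0), (156, 1), (79,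
    2), (88, 3), (33, 4), (155, 5)], [(72, 0), (149, 1), (112, 2), (145, 3), (3, 4), (179, 6)], [(179, 1), (1, 3),
    (2, 9), (1, 10)], [(1, 1), (179, 3)], [(1, 17)]]),
  (189, 15, [7], [[(1, 16)], [], []]),
  (192, 15, [192], [[], [(12, 0), (3, 1), (170, 3), (191, 4), (114, 5), (66, 6)], [(88, 0), (170, 1), (42, 2), (63,
    3), (170, 5), (21, 6), (185, 7)], [(191, 0), (135, 2), (7, 3), (174, 5), (190, 6), (190, 9), (191, 10)], [(1,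
    5)], [(130, 2), (3, 3), (191, 6)], [(1, 16)]]),
  (200, 15, [200], [[], [(72, 0), (178, 1), (125, 2), (53, 3), (105, 4), (80, 9), (199, 10), (165, 11), (39, 13),
    (1, 16)], [(104, 0), (196, 1), (150, 2), (46, 3), (163, 4), (8, 9), (40, 10), (199, 11)], [(24, 0), (26, 1),
    (25, 2), (1, 3)], [(1, 13)], [(1, 16)]]),
  (210, 15, [7], [[(1, 16)], [], [], [], [], [], [], []]),
  (216, 15, [216], [[], [(30, 0), (143, 1), (180, 2), (116, 3), (1, 4), (30, 5), (48, 6)], [(203, 0), (2, 1), (41,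
    2), (155, 3), (82, 5), (24, 6)], [(70, 2), (213, 3), (14, 5), (1, 6), (213, 7), (214, 9), (215, 10)], [(1, 5)],
    [(146, 2), (3, 3), (215, 6)], [(1, 16)]]),
  (224, 14, [7], [[(1, 16)], [], [], []]),
  (225, 14, [225], [[], [(219, 0), (11, 1), (2, 2), (189, 3), (224, 4)], [(1, 6)], [(1, 13)], [(1, 16)]]),
  (240, 14, [240], [[], [(215, 0), (149, 1), (7, 2), (208, 3), (132, 4), (68, 5), (14, 6), (134, 7), (234, 9), (238,
    10)], [(188, 0), (11, 1), (164, 2), (51, 3), (188, 4), (20, 5), (224, 6), (12, 7), (114, 9), (184, 10), (239,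
    14)], [(142, 0), (169, 1), (166, 2), (114, 3), (22, 4), (160, 5), (106, 6), (18, 7), (237, 9), (239, 10)], [(65,
    0), (24, 1), (127, 2), (76, 3), (165, 4), (35, 5)], [(165, 0), (144, 1), (109, 2), (83, 3), (149, 4), (239, 6)],
    [(239, 1), (1, 3), (2, 9), (1, 10)], [(1, 1), (239, 3)], [(1, 16)]]),
  (252, 14, [7], [[(1, 16)], [], [], [], [], [], []]),
  (270, 14, [270], [[], [(261, 0), (13, 1), (257, 2), (148, 3), (242, 4), (123, 5), (30, 6), (56, 7), (1, 8)], [(87,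
    0), (192, 1), (248, 2), (102, 3), (218, 4), (213, 5), (36, 6), (267, 9), (269, 10)], [(66, 0), (40, 1), (265,
    2), (48, 3), (154, 4), (219, 5)], [(1, 0), (269, 1), (269, 3), (1, 9)], [(269, 1), (1, 3), (2, 9), (1, 10)],
    [(1, 1), (269, 3)], [(1, 16)]]),
  (280, 13, [7], [[(1, 16)], [], [], [], [], []]),
  (288, 13, [288], [[], [(43, 0), (186, 1), (87, 2), (96, 3), (284, 5), (276, 6), (287, 9)], [(116, 0), (21, 1),
    (197, 2), (214, 3), (82, 5), (75, 6)], [(4, 2), (141, 3), (230, 5), (46, 6), (7, 9), (287, 10)], [(1, 5)],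
    [(194, 2), (3, 3), (287, 6)], [(1, 16)]]),
  (300, 13, [2, 50, 300], [[], [(54, 0), (298, 1), (69, 2), (115, 3), (104, 4), (135, 5), (279, 6), (84, 7), (9,
    8)], [(84, 0), (6, 1), (206, 2), (178, 3), (133, 4), (60, 5), (155, 6), (119, 7), (82, 9), (78, 10), (37, 11),
    (1, 16)], [(240, 0), (66, 1), (234, 3), (240, 4), (60, 5), (96, 9), (48, 10), (1, 17)], [(59, 0), (186, 1),
    (189, 2), (224, 3), (133, 4), (287, 5), (288, 6)], [(123, 0), (246, 1), (87, 2), (39, 3), (105, 4), (299, 6)],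
    [(299, 1), (1, 3), (2, 9), (1, 10)], [(1, 1), (299, 3)], [(1, 18)]]),
  (315, 13, [7], [[(1, 16)], [], [], [], []]),
  (320, 13, [320], [[], [(281, 0), (212, 1), (69, 2), (153, 3), (285, 4), (10, 5)], [(88, 0), (64, 1), (202, 2),
    (247, 3), (252, 4), (1, 5)], [(39, 0), (41, 1), (40, 2), (1, 3)], [(1, 13)], [(1, 16)]]),
  (336, 13, [7], [[(1, 16)], [], [], [], [], [], []]),
  (350, 13, [7], [[(1, 16)], [], [], [], []]),
  (360, 12, [360], [[], [(261, 0), (255, 1), (152, 2), (133, 3), (154, 4), (33, 5), (75, 6), (328, 7), (3, 8)],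
    [(255, 0), (197, 1), (182, 2), (2, 3), (10, 4), (300, 5), (341, 6), (135, 9), (262, 10), (359, 13)], [(181, 0),
    (32, 1), (298, 2), (277, 3), (24, 4), (40, 5), (325, 6), (357, 9), (359, 10)], [(164, 0), (173, 1), (330, 2),
    (346, 3), (323, 4), (287, 5)], [(252, 0), (213, 1), (164, 2), (121, 3), (223, 4), (359, 6)], [(359, 1), (1, 3),
    (2, 9), (1, 10)], [(1, 1), (359, 3)], [(1, 16)]]),
  (378, 12, [7], [[(1, 16)], [], [], [], [], []]),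
  (384, 12, [], [[(364, 0), (178, 1), (213, 2), (125, 3), (370, 4), (248, 5), (285, 6)], [], [], [], [], [], []]),
  (400, 12, [400], [[], [(29, 0), (40, 1), (217, 2), (385, 3), (365, 4), (322, 5)], [(206, 0), (394, 1), (300, 2),
    (94, 3), (323, 4), (16, 9), (80, 10), (399, 11)], [(49, 0), (51, 1), (50, 2), (1, 3)], [(1, 13)], [(1, 16)]]),
  (420, 12, [7], [[(1, 16)], [], [], [], [], [], [], [], []]),
  (432, 12, [432], [[], [(12, 0), (263, 1), (90, 2), (332, 3), (427, 4), (354, 5), (228, 6)], [(158, 0), (23, 1),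
    (131, 2), (422, 3), (82, 5), (231, 6)], [(15, 0), (235, 2), (171, 3), (206, 5), (370, 6), (430, 9), (431, 10)],
    [(1, 5)], [(290, 2), (3, 3), (431, 6)], [(1, 16)]]),
  (448, 12, [7], [[(1, 16)], [], [], []]),
  (450, 12, [450], [[], [(164, 0), (351, 1), (56, 2), (399, 3), (47, 4), (104, 5), (11, 6), (1, 7)], [(31, 0), (293,
    1), (380, 2), (3, 3), (432, 4), (449, 5), (182, 6), (9, 9), (1, 10), (1, 11)], [(2, 0), (87, 1), (359, 3), (272,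
    9), (361, 10), (449, 13)], [(1, 0), (449, 1), (449, 3), (1, 9)], [(449, 1), (1, 3), (2, 9), (1, 10)], [(1, 1),
    (449, 3)], [(1, 16)]]),
  (480, 11, [480], [[], [(404, 0), (38, 1), (96, 2), (104, 3), (232, 4), (164, 5), (377, 6), (69, 7), (471, 9),
    (478, 10)], [(348, 0), (15, 1), (58, 2), (269, 3), (233, 4), (408, 5), (27, 6), (1, 7)], [(358, 0), (3, 1),
    (124, 2), (14, 3), (368, 4), (232, 5), (478, 6), (477, 9), (479, 10)], [(161, 0), (104, 1), (271, 2), (12, 3),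
    (277, 4), (467, 5)], [(339, 0), (282, 1), (219, 2), (159, 3), (297, 4), (479, 6)], [(479, 1), (1, 3), (2, 9),
    (1, 10)], [(1, 1), (479, 3)], [(1, 16)]]),
  (504, 11, [7], [[(1, 16)], [], [], [], [], [], []]),
  (525, 11, [7], [[(1, 16)], [], [], [], []]),
  (540, 11, [2, 540], [[], [(487, 0), (416, 1), (76, 2), (254, 3), (274, 4), (400, 5), (443, 6), (380, 7), (60, 9),
    (55, 10), (1, 13)], [(362, 0), (342, 1), (198, 2), (531, 3), (165, 4), (428, 5), (521, 6), (445, 7), (201, 9),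
    (67, 10), (1, 16)], [(333, 0), (171, 1), (410, 2), (361, 3), (316, 4), (60, 5), (537, 6)], [(479, 0), (122, 1),
    (537, 2), (412, 3), (473, 4), (71, 5)], [(225, 0), (440, 1), (337, 2), (427, 3), (9, 4), (539, 6)], [(539, 1),
    (1, 3), (2, 9), (1, 10)], [(1, 1), (539, 3)], [(1, 17)]]),
  (560, 11, [7], [[(1, 16)], [], [], [], [], []]),
  (576, 11, [576], [[], [(120, 0), (137, 1), (135, 2), (17, 3), (13, 4), (138, 5), (489, 6)], [(308, 0), (17, 1),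
    (428, 2), (485, 3), (22, 5), (114, 6)], [(63, 0), (505, 2), (33, 3), (374, 5), (352, 6), (574, 9), (575, 10)],
    [(1, 5)], [(386, 2), (3, 3), (575, 6)], [(1, 16)]]),
  (600, 11, [600], [[], [(211, 0), (215, 1), (116, 2), (355, 3), (390, 4), (370, 5), (271, 6), (390, 7), (590, 8),
    (588, 9), (596, 10)], [(362, 0), (407, 1), (20, 2), (321, 3), (440, 4), (500, 5), (174, 6), (234, 7), (98, 9),
    (34, 10), (599, 11)], [(502, 0), (525, 1), (68, 2), (184, 3), (310, 4), (448, 5), (100, 6), (582, 7), (597, 9),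
    (599, 10)], [(467, 0), (454, 1), (225, 2), (408, 3), (129, 4), (59, 5)], [(426, 0), (351, 1), (274, 2), (197,
    3), (371, 4), (599, 6)], [(599, 1), (1, 3), (2, 9), (1, 10)], [(1, 1), (599, 3)], [(1, 16)]]),
  (630, 10, [7], [[(1, 16)], [], [], [], [], [], [], []]),
  (640, 10, [], [[(256, 0), (60, 1), (141, 2), (425, 3), (606, 4), (506, 5), (1, 6)], [], [], [], [], []]),
  (672, 10, [7], [[(1, 16)], [], [], [], [], [], []]),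
  (675, 10, [675], [[], [(489, 0), (551, 1), (512, 2), (579, 3), (659, 4)], [(1, 6)], [(1, 13)], [(1, 16)]]),
  (700, 10, [7], [[(1, 16)], [], [], [], [], []]),
  (720, 10, [720], [[], [(153, 0), (7, 1), (520, 2), (555, 3), (88, 4), (315, 5), (513, 6), (314, 7), (681, 8),
    (702, 9), (714, 10)], [(463, 0), (112, 1), (617, 2), (293, 3), (657, 4), (652, 5), (409, 6), (75, 7), (6, 9),
    (2, 10)], [(370, 0), (521, 1), (178, 2), (598, 3), (186, 4), (544, 5), (46, 6), (702, 7), (717, 9), (719, 10)],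
    [(11, 0), (350, 1), (249, 2), (496, 3), (137, 4), (683, 5)], [(513, 0), (420, 1), (329, 2), (235, 3), (445, 4),
    (719, 6)], [(719, 1), (1, 3), (2, 9), (1, 10)], [(1, 1), (719, 3)], [(1, 16)]]),
  (756, 10, [7], [[(1, 16)], [], [], [], [], [], []]),
  (800, 10, [800], [[], [(465, 0), (260, 1), (733, 2), (193, 3), (741, 4), (666, 5)], [(410, 0), (790, 1), (600, 2),
    (190, 3), (643, 4), (32, 9), (160, 10), (799, 11)], [(99, 0), (101, 1), (100, 2), (1, 3)], [(1, 13)], [(1,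
    16)]]),
  (840, 9, [7], [[(1, 16)], [], [], [], [], [], [], []]),
  (864, 9, [], [[(130, 0), (442, 1), (426, 2), (329, 3), (37, 4), (821, 5)], [], [], [], [], []])]

theorem okB : chkB D R nu O SOL CL = true := by decide +kernel

theorem okC : cov D.N 890 (CL.map Prod.fst) = true := by decide +kernel

variable {K : Type} [Group K] [Finite K] {T : TD K D} {A : Subgroup K}

theorem vec (H : Sp.Hy T R nu) (hb : ¬ Good A) (h1 : A ≠ ⊤) (h0 : A ≠ ⊥) : ∃ v ∈ SOL, Vec T A v :=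
  bad H hb (res H hb h1) okB (mem_of_cov H.mass h0 (res H hb h1).1 okC)

end Cfsg.Agent.N2.Sp1.J2
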