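import Cfsg.Agent.N2.Sp1.Sieve
import Cfsg.Agent.N2.Sp.GMcL

/-!
# N2 (S3519), sporadic rows: the exact sieve for McL (helper45; generated by notes/N2/sp45/emit.py.txt)
-/

set_option autoImplicit false

namespace Cfsg.Agent.N2.Sp1.McL

open Cfsg Cfsg.Agent.FP3 Cfsg.Agent.TAB.Eng Cfsg.Agent.TAB.Use Cfsg.Agent.N2.Sp Cfsg.Agent.N2.Sp.McL

/-- the solutions -/
def SOL : List (List ℕ) := [
  [1, 1, 0, 0, 0, 0, 0, 0, 0, 0, 0, 0, 0, 0, 0, 0, 0, 0],
  [1, 0, 2, 0, 0, 0, 0, 0, 0, 0, 0, 0, 0, 0, 0, 0, 0, 0],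
  [1, 3, 0, 0, 0, 0, 0, 0, 0, 0, 0, 0, 0, 0, 0, 0, 0, 0],
  [1, 0, 0, 0, 0, 4, 0, 0, 0, 0, 0, 0, 0, 0, 0, 0, 0, 0],
  [1, 3, 2, 0, 0, 0, 0, 0, 0, 0, 0, 0, 0, 0, 0, 0, 0, 0],
  [1, 7, 0, 0, 0, 0, 0, 0, 0, 0, 0, 0, 0, 0, 0, 0, 0, 0],
  [1, 0, 0, 8, 0, 0, 0, 0, 0, 0, 0, 0, 0, 0, 0, 0, 0, 0],
  [1, 0, 1, 7, 0, 0, 0, 0, 0, 0, 0, 0, 0, 0, 0, 0, 0, 0],
  [1, 0, 2, 6, 0, 0, 0, 0, 0, 0, 0, 0, 0, 0, 0, 0, 0, 0],
  [1, 0, 3, 5, 0, 0, 0, 0, 0, 0, 0, 0, 0, 0, 0, 0, 0, 0],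
  [1, 3, 0, 8, 0, 0, 0, 0, 0, 0, 0, 0, 0, 0, 0, 0, 0, 0],
  [1, 3, 8, 0, 0, 0, 0, 0, 0, 0, 0, 0, 0, 0, 0, 0, 0, 0],
  [1, 15, 0, 0, 0, 0, 0, 0, 0, 0, 0, 0, 0, 0, 0, 0, 0, 0],
  [1, 9, 0, 8, 0, 0, 0, 0, 0, 0, 0, 0, 0, 0, 0, 0, 0, 0],
  [1, 9, 8, 0, 0, 0, 0, 0, 0, 0, 0, 0, 0, 0, 0, 0, 0, 0],
  [1, 15, 8, 0, 0, 0, 0, 0, 0, 0, 0, 0, 0, 0, 0, 0, 0, 0],
  [1, 0, 2, 24, 0, 0, 0, 0, 0, 0, 0, 0, 0, 0, 0, 0, 0, 0],
  [1, 0, 5, 21, 0, 0, 0, 0, 0, 0, 0, 0, 0, 0, 0, 0, 0, 0],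
  [1, 0, 8, 18, 0, 0, 0, 0, 0, 0, 0, 0, 0, 0, 0, 0, 0, 0],
  [1, 0, 11, 15, 0, 0, 0, 0, 0, 0, 0, 0, 0, 0, 0, 0, 0, 0],
  [1, 0, 14, 12, 0, 0, 0, 0, 0, 0, 0, 0, 0, 0, 0, 0, 0, 0],
  [1, 27, 8, 0, 0, 0, 0, 0, 0, 0, 0, 0, 0, 0, 0, 0, 0, 0],
  [1, 15, 0, 0, 0, 24, 0, 0, 0, 0, 0, 0, 0, 0, 0, 0, 0, 0],
  [1, 15, 0, 32, 0, 0, 0, 0, 0, 0, 0, 0, 0, 0, 0, 0, 0, 0],
  [1, 15, 16, 16, 0, 0, 0, 0, 0, 0, 0, 0, 0, 0, 0, 0, 0, 0],
  [1, 25, 0, 0, 0, 24, 0, 0, 0, 0, 0, 0, 0, 0, 0, 0, 0, 0],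
  [1, 27, 2, 24, 0, 0, 0, 0, 0, 0, 0, 0, 0, 0, 0, 0, 0, 0],
  [1, 27, 8, 18, 0, 0, 0, 0, 0, 0, 0, 0, 0, 0, 0, 0, 0, 0],
  [1, 27, 26, 0, 0, 0, 0, 0, 0, 0, 0, 0, 0, 0, 0, 0, 0, 0],
  [1, 15, 0, 20, 0, 24, 0, 0, 0, 0, 0, 0, 0, 0, 0, 0, 0, 0],
  [1, 15, 8, 0, 0, 0, 0, 48, 0, 0, 0, 0, 0, 0, 0, 0, 0, 0],
  [1, 0, 0, 50, 0, 24, 0, 0, 0, 0, 0, 0, 0, 0, 0, 0, 0, 0],
  [1, 0, 2, 78, 0, 0, 0, 0, 0, 0, 0, 0, 0, 0, 0, 0, 0, 0],
  [1, 0, 11, 69, 0, 0, 0, 0, 0, 0, 0, 0, 0, 0, 0, 0, 0, 0],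
  [1, 0, 20, 60, 0, 0, 0, 0, 0, 0, 0, 0, 0, 0, 0, 0, 0, 0],
  [1, 0, 29, 51, 0, 0, 0, 0, 0, 0, 0, 0, 0, 0, 0, 0, 0, 0],
  [1, 0, 38, 42, 0, 0, 0, 0, 0, 0, 0, 0, 0, 0, 0, 0, 0, 0],
  [1, 27, 8, 72, 0, 0, 0, 0, 0, 0, 0, 0, 0, 0, 0, 0, 0, 0],
  [1, 27, 20, 60, 0, 0, 0, 0, 0, 0, 0, 0, 0, 0, 0, 0, 0, 0],
  [1, 27, 32, 48, 0, 0, 0, 0, 0, 0, 0, 0, 0, 0, 0, 0, 0, 0],
  [1, 27, 44, 36, 0, 0, 0, 0, 0, 0, 0, 0, 0, 0, 0, 0, 0, 0],
  [1, 0, 5, 75, 0, 54, 0, 0, 0, 0, 0, 0, 0, 0, 0, 0, 0, 0],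
  [1, 0, 20, 60, 0, 54, 0, 0, 0, 0, 0, 0, 0, 0, 0, 0, 0, 0],
  [1, 15, 8, 0, 0, 0, 0, 120, 0, 0, 0, 0, 0, 0, 0, 0, 0, 0],
  [1, 15, 12, 32, 0, 0, 0, 84, 0, 0, 0, 0, 0, 0, 0, 0, 0, 0],
  [1, 15, 44, 0, 0, 0, 0, 84, 0, 0, 0, 0, 0, 0, 0, 0, 0, 0],
  [1, 63, 0, 80, 0, 0, 0, 0, 0, 0, 0, 0, 0, 0, 0, 0, 0, 0],
  [1, 0, 0, 125, 0, 99, 0, 0, 0, 0, 0, 0, 0, 0, 0, 0, 0, 0],
  [1, 0, 25, 100, 0, 99, 0, 0, 0, 0, 0, 0, 0, 0, 0, 0, 0, 0],
  [1, 15, 0, 80, 0, 144, 0, 0, 0, 0, 0, 0, 0, 0, 0, 0, 0, 0],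
  [1, 0, 2, 240, 0, 0, 0, 0, 0, 0, 0, 0, 0, 0, 0, 0, 0, 0],
  [1, 0, 29, 213, 0, 0, 0, 0, 0, 0, 0, 0, 0, 0, 0, 0, 0, 0],
  [1, 0, 56, 186, 0, 0, 0, 0, 0, 0, 0, 0, 0, 0, 0, 0, 0, 0],
  [1, 0, 83, 159, 0, 0, 0, 0, 0, 0, 0, 0, 0, 0, 0, 0, 0, 0],
  [1, 0, 110, 132, 0, 0, 0, 0, 0, 0, 0, 0, 0, 0, 0, 0, 0, 0],
  [1, 27, 20, 60, 0, 0, 0, 216, 0, 0, 0, 0, 0, 0, 0, 0, 0, 0],
  [1, 27, 29, 132, 0, 0, 0, 135, 0, 0, 0, 0, 0, 0, 0, 0, 0, 0],
  [1, 0, 50, 300, 0, 324, 0, 0, 0, 0, 0, 0, 0, 0, 0, 0, 0, 0],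
  [1, 15, 0, 80, 0, 144, 0, 480, 0, 0, 0, 0, 0, 0, 0, 0, 0, 0],
  [1, 15, 20, 240, 0, 144, 0, 300, 0, 0, 0, 0, 0, 0, 0, 0, 0, 0]]

/-- the certificates -/
def CL : List Ct := [
  (2, 766, [2], [[], [(1, 18)]]),
  (3, 669, [3], [[], [], [(1, 18)]]),
  (4, 608, [4], [[], [(1, 18)]]),
  (5, 565, [5], [[], [(1, 18)]]),
  (6, 531, [6], [[], [(2, 4), (5, 10), (1, 11)], [(1, 11), (5, 18)], [(1, 18)]]),
  (7, 505, [], [[(1, 0)]]),
  (8, 483, [8], [[], [(1, 18)]]),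
  (9, 464, [9], [[], [], [(1, 18)]]),
  (10, 448, [10], [[], [(5, 0), (9, 5)], [(1, 18)]]),
  (11, 434, [], [[(1, 0)]]),
  (12, 422, [12], [[], [(10, 0), (11, 1), (3, 2)], [(9, 4), (11, 10)], [(1, 18)]]),
  (14, 401, [7], [[(1, 18)], []]),
  (15, 392, [15], [[], [(13, 0), (10, 3), (6, 4), (1, 16)], [(10, 0), (10, 3), (12, 4)], [(1, 18)]]),
  (16, 383, [16], [[], [(1, 18)]]),
  (18, 369, [18], [[], [(5, 0), (7, 3), (10, 4)], [(13, 0), (17, 11)], [(1, 18)]]),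
  (20, 356, [20], [[], [(15, 0), (13, 1), (4, 2)], [(1, 18)]]),
  (21, 350, [], [[(1, 14)], [], []]),
  (22, 345, [], [[(1, 13)], []]),
  (24, 335, [8, 24], [[], [(1, 18)], [(6, 0), (6, 2), (6, 3), (1, 8)], [(7, 0), (23, 2)], [(1, 19)]]),
  (25, 330, [25], [[], [(1, 18)]]),
  (27, 322, [27], [[], [(11, 0), (26, 16)], [(1, 18)]]),
  (28, 318, [7], [[(1, 18)], []]),
  (30, 311, [30], [[], [(24, 0), (27, 1), (5, 2), (21, 3), (3, 4), (29, 5), (28, 6)], [(21, 0), (6, 1), (23, 2),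
    (14, 3), (29, 10)], [(7, 0), (3, 1), (22, 2), (10, 3)], [(1, 3), (29, 18)], [(1, 18)]]),
  (32, 304, [], [[(6, 0), (31, 1)], []]),
  (33, 301, [], [[(1, 9)], [], []]),
  (35, 295, [], [[(1, 7)], []]),
  (36, 293, [36], [[], [(1, 0), (5, 2), (35, 11)], [], [(7, 0), (35, 2)], [(1, 18)]]),
  (40, 283, [40], [[], [(39, 0), (5, 1), (36, 2)], [(1, 18)]]),
  (42, 278, [7], [[(1, 18)], [], [], [], []]),
  (44, 274, [], [[(1, 13)], []]),
  (45, 272, [5, 45], [[], [(18, 0), (9, 3), (27, 4), (1, 18)], [(43, 0), (1, 3), (3, 4)], [(1, 19)]]),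
  (48, 266, [16, 48], [[], [(1, 18)], [(6, 0), (6, 2), (6, 3), (1, 8)], [(7, 0), (47, 2)], [(1, 19)]]),
  (50, 262, [50], [[], [(2, 0), (44, 1), (5, 2)], [(1, 18)]]),
  (54, 256, [54], [[], [(19, 0), (5, 2), (53, 11)], [(50, 0), (16, 2), (53, 16)], [(7, 0), (53, 2)], [(1, 18)]]),
  (55, 254, [], [[(1, 4)], []]),
  (56, 253, [7], [[(1, 18)], []]),
  (60, 247, [60], [[], [(27, 0), (10, 1), (59, 3), (24, 4), (54, 5), (53, 6)], [(59, 0), (14, 1), (22, 2), (46, 3),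
    (59, 18)], [(42, 0), (58, 1), (57, 2), (45, 3)], [(1, 3), (59, 18)], [(1, 18)]]),
  (63, 243, [], [[(1, 14)], [], []]),
  (64, 242, [], [[(6, 0), (63, 1)], []]),
  (66, 239, [11], [[(1, 18)], [], [], [], []]),
  (70, 235, [7], [[(1, 18)], [], []]),
  (72, 232, [72], [[], [(17, 0), (70, 1), (30, 2), (67, 3)], [(54, 0), (54, 2), (6, 3), (1, 8)], [(7, 0), (71, 2)],
    [(1, 18)]]),
  (75, 229, [75], [[], [(67, 0), (74, 13)], [(67, 0), (4, 3), (21, 4)], [(1, 18)]]),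
  (77, 227, [], [[(1, 0)]]),
  (80, 224, [80], [[], [(4, 0), (10, 1), (71, 2)], [(1, 18)]]),
  (81, 223, [81], [[], [(73, 0), (80, 13)], [(1, 18)]]),
  (84, 221, [7], [[(1, 18)], [], [], [], []]),
  (88, 217, [], [[(1, 13)], []]),
  (90, 216, [90], [[], [(21, 0), (82, 1), (28, 2), (86, 3), (63, 4), (7, 5), (88, 6)], [(40, 0), (12, 1), (20, 2),
    (68, 3), (89, 12)], [(33, 0), (1, 1), (6, 2), (12, 3)], [(1, 3), (89, 18)], [(1, 18)]]),
  (96, 211, [], [[(20, 0), (90, 1), (42, 2), (5, 3), (21, 4), (1, 6)], [], [], [], []]),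
  (99, 209, [], [[(1, 9)], [], []]),
  (100, 208, [100], [[], [(85, 0), (63, 1), (34, 2)], [(1, 18)]]),
  (105, 205, [7], [[(1, 18)], [], [], []]),
  (108, 203, [108], [[], [(73, 0), (5, 2), (107, 11)], [(56, 0), (100, 2), (107, 3), (1, 18)], [(7, 0), (107, 2)],
    [(1, 18)]]),
  (110, 202, [11], [[(1, 18)], [], []]),
  (112, 201, [7], [[(1, 18)], []]),
  (120, 196, [120], [[], [(41, 0), (60, 1), (56, 2), (114, 3), (39, 4), (15, 5), (118, 6)], [(42, 0), (46, 1), (92,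
    2), (18, 3), (2, 6), (119, 8)], [(89, 0), (119, 1), (110, 2), (104, 3)], [(1, 3), (119, 18)], [(1, 18)]]),
  (125, 193, [], [[(122, 0), (124, 1)], []]),
  (126, 193, [7], [[(1, 18)], [], [], [], []]),
  (128, 192, [], [[(6, 0), (127, 1)], []]),
  (132, 190, [11], [[(1, 18)], [], [], [], []]),
  (135, 189, [135], [[], [(26, 0), (122, 3), (7, 4)], [(12, 0), (129, 3), (76, 4)], [(1, 18)]]),
  (140, 186, [7], [[(1, 18)], [], []]),
  (144, 185, [144], [[], [(74, 0), (141, 1), (53, 2), (16, 3), (4, 4)], [(88, 0), (8, 2), (2, 3), (143, 6), (1, 8)],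
    [(7, 0), (143, 2)], [(1, 18)]]),
  (150, 182, [50, 150], [[], [(143, 0), (140, 1), (104, 2), (129, 3), (4, 4), (13, 5), (138, 6)], [(129, 0), (6, 1),
    (90, 2), (123, 3), (1, 18)], [(50, 0), (2, 1), (29, 2), (41, 3)], [(1, 3), (149, 19)], [(1, 19)]]),
  (154, 181, [], [[(1, 13)], []]),
  (160, 178, [], [[(57, 0), (1, 1), (151, 2)], [], []]),
  (162, 177, [162], [[], [(59, 0), (110, 2), (7, 3), (118, 4), (141, 5)], [(80, 0), (58, 2), (5, 3), (1, 4)], [(7,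
    0), (161, 2)], [(1, 18)]]),
  (165, 176, [11], [[(1, 18)], [], [], []]),
  (168, 175, [7], [[(1, 18)], [], [], [], []]),
  (175, 173, [], [[(1, 7)], []]),
  (176, 173, [], [[(1, 13)], []]),
  (180, 171, [90, 180], [[], [(30, 0), (131, 1), (113, 2), (50, 3), (56, 4), (157, 5), (178, 6)], [(176, 0), (42,
    1), (66, 2), (138, 3), (179, 18)], [(115, 0), (177, 1), (124, 2), (106, 3)], [(1, 3), (179, 19)], [(1, 19)]]),
  (189, 169, [], [[(1, 14)], [], []]),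
  (192, 168, [], [[(82, 0), (188, 1), (96, 2), (113, 3), (87, 4), (9, 6)], [], [], [], []]),
  (198, 166, [11], [[(1, 18)], [], [], [], []]),
  (200, 165, [200], [[], [(19, 0), (25, 1), (176, 2)], [(1, 18)]]),
  (210, 163, [7], [[(1, 18)], [], [], [], [], []]),
  (216, 161, [216], [[], [(197, 0), (2, 1), (164, 3), (203, 4)], [(28, 0), (212, 2), (1, 3), (215, 4), (1, 8)], [(7,
    0), (215, 2)], [(1, 18)]]),
  (220, 160, [11], [[(1, 18)], [], []]),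
  (224, 159, [7], [[(1, 18)], []]),
  (225, 159, [225], [[], [(220, 0), (224, 1), (1, 3)], [(8, 0), (221, 3), (158, 4)], [(1, 18)]]),
  (231, 158, [], [[(1, 9)], [], []]),
  (240, 156, [240], [[], [(160, 0), (29, 1), (123, 2), (40, 3), (52, 4), (214, 5), (13, 6), (2, 8)], [(41, 0), (169,
    1), (43, 2), (105, 3), (239, 8)], [(37, 0), (3, 1), (82, 2), (100, 3)], [(1, 3), (239, 18)], [(1, 18)]]),
  (243, 155, [243], [[], [(4, 0), (242, 1)], [(1, 18)]]),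
  (250, 154, [], [[(6, 0), (175, 1), (1, 10)], [], []]),
  (252, 153, [7], [[(1, 18)], [], [], [], []]),
  (264, 151, [11], [[(1, 18)], [], [], [], []]),
  (270, 150, [270], [[], [(144, 0), (199, 1), (97, 2), (143, 3), (177, 4), (31, 5), (268, 6)], [(143, 0), (26, 1),
    (22, 2), (169, 3), (269, 5)], [(252, 0), (268, 1), (207, 2), (195, 3)], [(1, 3), (269, 18)], [(1, 18)]]),
  (275, 149, [], [[(1, 4)], []]),
  (280, 148, [7], [[(1, 18)], [], []]),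
  (288, 147, [], [[(150, 0), (168, 1), (148, 2), (169, 3), (83, 4), (1, 6)], [], [], [], []]),
  (297, 145, [], [[(1, 9)], [], []]),
  (300, 145, [300], [[], [(197, 0), (84, 1), (264, 2), (138, 3), (87, 4), (13, 5), (288, 6)], [(48, 0), (288, 1),
    (156, 2), (96, 3), (1, 14)], [(3, 0), (1, 1), (36, 2), (42, 3)], [(1, 3), (299, 18)], [(1, 18)]]),
  (308, 143, [], [[(1, 13)], []]),
  (315, 142, [7], [[(1, 18)], [], [], []]),
  (320, 142, [], [[(57, 0), (1, 1), (311, 2)], [], []]),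
  (324, 141, [324], [[], [(179, 0), (4, 1), (88, 2), (159, 3), (258, 4)], [(2, 0), (46, 2), (4, 3), (1, 6)], [(7,
    0), (323, 2)], [(1, 18)]]),
  (330, 140, [11], [[(1, 18)], [], [], [], [], []]),
  (336, 139, [7], [[(1, 18)], [], [], [], []]),
  (350, 137, [7], [[(1, 18)], [], []]),
  (352, 137, [], [[(1, 13)], []]),
  (360, 136, [360], [[], [(143, 0), (62, 1), (226, 2), (96, 3), (343, 4), (15, 5), (358, 6)], [(340, 0), (132, 1),
    (74, 2), (172, 3), (2, 5), (359, 8)], [(350, 0), (2, 1), (89, 2), (101, 3)], [(1, 3), (359, 18)], [(1, 18)]]),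
  (375, 134, [], [[(86, 0), (347, 1), (83, 2), (41, 3), (368, 4)], [], [], []]),
  (378, 134, [7], [[(1, 18)], [], [], [], []]),
  (384, 133, [], [[(234, 0), (308, 1), (120, 2), (145, 3), (351, 4), (1, 6)], [], [], [], []]),
  (385, 133, [], [[(1, 4)], []]),
  (396, 132, [11], [[(1, 18)], [], [], [], []]),
  (400, 131, [400], [[], [(44, 0), (50, 1), (351, 2)], [(1, 18)]]),
  (405, 131, [405], [[], [(400, 0), (404, 1), (1, 3)], [(10, 0), (400, 3), (252, 4)], [(1, 18)]]),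
  (420, 129, [7], [[(1, 18)], [], [], [], [], []]),
  (432, 128, [432], [[], [(161, 0), (414, 1), (236, 2), (124, 3), (31, 4)], [(28, 0), (428, 2), (1, 3), (431, 4),
    (1, 8)], [(7, 0), (431, 2)], [(1, 18)]]),
  (440, 127, [11], [[(1, 18)], [], []]),
  (448, 127, [7], [[(1, 18)], []]),
  (450, 126, [450], [[], [(117, 0), (132, 1), (362, 2), (301, 3), (368, 4), (61, 5), (438, 6)], [(345, 0), (299, 1),
    (353, 2), (342, 3), (1, 4)], [(397, 0), (3, 1), (172, 2), (190, 3)], [(1, 3), (449, 18)], [(1, 18)]]),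
  (462, 125, [7], [[(1, 18)], [], [], [], []]),
  (480, 124, [], [[(388, 0), (360, 1), (382, 2), (415, 3), (425, 4), (107, 5), (475, 6)], [], [], [], [], []]),
  (486, 123, [486], [[], [(89, 0), (26, 1), (312, 2), (443, 3), (170, 4)], [(80, 0), (58, 2), (5, 3), (1, 4)], [(7,
    0), (485, 2)], [(1, 18)]]),
  (495, 122, [11], [[(1, 18)], [], [], []]),
  (500, 122, [], [[(288, 0), (362, 1), (216, 2), (1, 3)], [], []]),
  (504, 122, [7], [[(1, 18)], [], [], [], []]),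
  (525, 120, [7], [[(1, 18)], [], [], []]),
  (528, 120, [11], [[(1, 18)], [], [], [], []]),
  (540, 119, [540], [[], [(418, 0), (135, 1), (19, 2), (19, 3), (419, 4), (143, 5), (538, 6)], [(330, 0), (7, 1),
    (491, 2), (533, 3), (539, 18)], [(29, 0), (539, 1), (470, 2), (464, 3)], [(1, 3), (539, 18)], [(1, 18)]]),
  (550, 118, [11], [[(1, 18)], [], []]),
  (560, 118, [7], [[(1, 18)], [], []]),
  (567, 117, [], [[(1, 14)], [], []]),
  (576, 116, [], [[(108, 0), (162, 1), (162, 2), (575, 14)], [], [], [], []]),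
  (594, 115, [11], [[(1, 18)], [], [], [], []]),
  (600, 115, [600], [[], [(267, 0), (66, 1), (106, 2), (230, 3), (541, 4), (5, 5), (588, 6)], [(326, 0), (510, 1),
    (52, 2), (202, 3), (468, 4), (22, 6), (599, 8)], [(115, 0), (597, 1), (364, 2), (346, 3)], [(1, 3), (599, 18)],
    [(1, 18)]]),
  (616, 114, [], [[(1, 13)], []]),
  (630, 113, [7], [[(1, 18)], [], [], [], [], []]),
  (640, 112, [], [[(57, 0), (1, 1), (631, 2)], [], []]),
  (648, 112, [648], [[], [(98, 0), (613, 1), (37, 2), (576, 3), (36, 4)], [(21, 0), (646, 2), (647, 3), (1, 8)],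
    [(7, 0), (647, 2)], [(1, 18)]]),
  (660, 111, [11], [[(1, 18)], [], [], [], [], []]),
  (672, 111, [7], [[(1, 18)], [], [], [], []]),
  (675, 110, [675], [[], [(210, 0), (575, 3), (260, 4), (1, 12)], [(665, 0), (5, 3), (257, 4)], [(1, 18)]]),
  (693, 110, [], [[(1, 9)], [], []]),
  (700, 109, [7], [[(1, 18)], [], []]),
  (704, 109, [], [[(1, 13)], []]),
  (720, 108, [720], [[], [(655, 0), (614, 1), (606, 2), (478, 3), (177, 4), (395, 5), (718, 6)], [(518, 0), (674,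
    1), (616, 2), (350, 3), (2, 6), (719, 8)], [(663, 0), (1, 1), (96, 2), (102, 3)], [(1, 3), (719, 18)], [(1,
    18)]]),
  (729, 108, [], [[(9, 0), (728, 3)], [], []]),
  (750, 107, [], [[(13, 0), (537, 1), (199, 2), (712, 3), (419, 4), (104, 5), (700, 6)], [], [], [], [], []]),
  (756, 106, [7], [[(1, 18)], [], [], [], []]),
  (770, 106, [7], [[(1, 18)], [], []]),
  (792, 105, [11], [[(1, 18)], [], [], [], []]),
  (800, 104, [], [[(57, 0), (1, 1), (791, 2)], [], []]),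
  (810, 104, [810], [[], [(392, 0), (785, 1), (355, 2), (69, 3), (529, 4), (549, 5), (808, 6)], [(576, 0), (96, 1),
    (734, 2), (484, 3), (809, 17)], [(205, 0), (807, 1), (484, 2), (466, 3)], [(1, 3), (809, 18)], [(1, 18)]]),
  (825, 103, [11], [[(1, 18)], [], [], []]),
  (840, 103, [7], [[(1, 18)], [], [], [], [], []]),
  (864, 102, [32], [[(342, 0), (441, 1), (441, 2), (432, 4), (863, 18)], [], [], [], []]),
  (875, 101, [], [[(1, 7)], []]),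
  (880, 101, [11], [[(1, 18)], [], []]),
  (891, 101, [], [[(1, 9)], [], []]),
  (896, 101, [7], [[(1, 18)], []]),
  (900, 100, [900], [[], [(359, 0), (558, 1), (816, 2), (667, 3), (560, 4), (510, 5), (113, 6)], [(329, 0), (716,
    1), (490, 2), (337, 3), (888, 4), (899, 5)], [(162, 0), (898, 1), (657, 2), (645, 3)], [(1, 3), (899, 18)], [(1,
    18)]]),
  (924, 100, [7], [[(1, 18)], [], [], [], []]),
  (945, 99, [7], [[(1, 18)], [], [], []]),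
  (960, 98, [], [[(506, 0), (762, 1), (756, 2), (407, 3), (319, 4), (911, 5), (955, 6)], [], [], [], [], []]),
  (972, 98, [972], [[], [(152, 0), (919, 1), (55, 2), (864, 3), (54, 4)], [(695, 0), (874, 2), (959, 3), (1, 5)],
    [(7, 0), (971, 2)], [(1, 18)]]),
  (990, 97, [11], [[(1, 18)], [], [], [], [], []]),
  (1000, 97, [125], [[(944, 0), (8, 2), (1, 18)], [], []]),
  (1008, 97, [7], [[(1, 18)], [], [], [], []]),
  (1050, 95, [7], [[(1, 18)], [], [], [], [], []]),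
  (1056, 95, [11], [[(1, 18)], [], [], [], [], []]),
  (1080, 95, [1080], [[], [(736, 0), (444, 1), (234, 2), (353, 3), (219, 4), (913, 5), (37, 6), (1078, 8)], [(1074,
    0), (964, 1), (4, 2), (351, 3), (1039, 4), (214, 5), (1, 8)], [(405, 0), (900, 1), (801, 2), (902, 3), (194, 4),
    (1079, 5)], [(768, 0), (128, 1), (435, 2), (123, 3)], [(1, 3), (1079, 18)], [(1, 18)]]),
  (1100, 94, [11], [[(1, 18)], [], [], []]),
  (1120, 93, [7], [[(1, 18)], [], [], []]),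
  (1125, 93, [], [[(888, 0), (1078, 1), (48, 3), (86, 4)], [], [], []]),
  (1134, 93, [7], [[(1, 18)], [], [], [], []]),
  (1152, 93, [], [[(539, 0), (73, 1), (815, 2), (1050, 3), (845, 4), (614, 5), (1148, 6)], [], [], [], [], []]),
  (1155, 92, [7], [[(1, 18)], [], [], []]),
  (1188, 92, [11], [[(1, 18)], [], [], [], [], []]),
  (1200, 91, [1200], [[], [(439, 0), (821, 1), (905, 2), (917, 3), (1178, 4), (111, 5), (1177, 6)], [(550, 0), (824,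
    1), (286, 2), (1102, 3), (440, 4), (1120, 5), (1, 8)], [(925, 0), (964, 1), (489, 2), (114, 3), (990, 4), (1199,
    5)], [(191, 0), (313, 1), (824, 2), (302, 3)], [(1, 3), (1199, 18)], [(1, 18)]]),
  (1215, 91, [1215], [[], [(1210, 0), (1214, 1), (1, 3)], [(1213, 0), (1, 3), (93, 4)], [(1, 18)]]),
  (1232, 91, [], [[(1, 13)], [], []]),
  (1260, 90, [7], [[(1, 18)], [], [], [], [], [], []]),
  (1296, 89, [1296], [[], [(603, 0), (1061, 1), (981, 2), (1153, 3), (710, 4), (205, 5), (1, 6)], [(588, 0), (134,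
    1), (656, 3), (852, 4), (4, 5), (1295, 8)], [(26, 0), (1, 1), (1287, 3), (4, 4)], [(3, 0), (1295, 1)], [(1,
    18)]]),
  (1320, 88, [11], [[(1, 18)], [], [], [], [], [], []]),
  (1344, 88, [7], [[(1, 18)], [], [], [], [], []]),
  (1350, 88, [1350], [[], [(829, 0), (318, 1), (156, 2), (1302, 3), (105, 4), (425, 5), (1338, 6)], [(522, 0),
    (1096, 1), (58, 2), (1209, 3), (5, 4)], [(1203, 0), (1, 1), (186, 2), (192, 3)], [(1, 3), (1349, 18)], [(1,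
    18)]]),
  (1375, 87, [], [[(1, 4)], []]),
  (1386, 87, [7], [[(1, 18)], [], [], [], []]),
  (1400, 87, [7], [[(1, 18)], [], [], []]),
  (1408, 87, [], [[(1, 13)], [], []]),
  (1440, 86, [1440], [[], [(223, 0), (1309, 1), (649, 2), (1425, 3), (374, 4), (65, 5), (1407, 6)], [(892, 0), (530,
    1), (1212, 2), (602, 3), (586, 4), (707, 5), (1425, 6), (1, 8)], [(595, 0), (1270, 1), (1251, 2), (12, 3),
    (1194, 4), (1439, 5)], [(1130, 0), (970, 1), (1285, 2), (1355, 3), (1438, 4)], [(1, 3), (1439, 18)], [(1, 18)]]),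
  (1458, 86, [], [[(622, 0), (1316, 1), (482, 2), (282, 3), (162, 4), (1428, 5), (1, 8)], [], [], [], []]),
  (1485, 85, [11], [[(1, 18)], [], [], []]),
  (1500, 85, [], [[(138, 0), (406, 1), (1228, 2), (1001, 3), (1137, 4), (658, 5), (100, 6)], [], [], [], [], [],
    []]),
  (1512, 85, [7], [[(1, 18)], [], [], [], [], []]),
  (1540, 84, [7], [[(1, 18)], [], [], []]),
  (1575, 83, [7], [[(1, 18)], [], [], []]),
  (1584, 83, [11], [[(1, 18)], [], [], [], [], []]),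
  (1600, 83, [1600], [[], [(923, 0), (21, 1), (65, 2), (175, 3)], [(1371, 0), (1, 1), (1372, 2)], [(1, 18)]]),
  (1620, 83, [2, 1620], [[], [(874, 0), (622, 1), (1572, 2), (265, 3), (817, 4), (1560, 5), (1206, 6), (1, 18)],
    [(66, 0), (1200, 1), (622, 2), (951, 3), (1224, 4), (96, 5), (1, 7)], [(1105, 0), (1528, 1), (1377, 2), (36, 3),
    (156, 4), (1619, 5)], [(241, 0), (423, 1), (1114, 2), (412, 3)], [(1, 3), (1619, 19)], [(1, 19)]]),
  (1650, 82, [11], [[(1, 18)], [], [], [], [], []]),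
  (1680, 82, [7], [[(1, 18)], [], [], [], [], [], []]),
  (1701, 81, [], [[(1, 14)], [], []]),
  (1728, 81, [1728], [[], [(736, 0), (1390, 1), (982, 2), (1099, 3), (1719, 4), (1088, 5), (1727, 6)], [(888, 0),
    (162, 1), (1688, 2), (958, 3), (50, 4), (1708, 5), (1727, 8)], [(1134, 0), (1549, 1), (4, 2), (1103, 3)], [(3,
    0), (1727, 1)], [(1, 18)]]),
  (1750, 81, [7], [[(1, 18)], [], []]),
  (1760, 80, [11], [[(1, 18)], [], [], []]),
  (1782, 80, [11], [[(1, 18)], [], [], [], []]),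
  (1800, 80, [1800], [[], [(366, 0), (770, 1), (1092, 2), (1071, 3), (1051, 4), (268, 5), (2, 6)], [(692, 0), (1578,
    1), (868, 2), (1706, 3), (498, 4), (919, 5), (1797, 6), (1, 8)], [(1345, 0), (472, 1), (405, 2), (1518, 3),
    (1422, 4), (1799, 5)], [(1676, 0), (988, 1), (479, 2), (1007, 3)], [(1, 3), (1799, 18)], [(1, 18)]]),
  (1848, 79, [7], [[(1, 18)], [], [], [], [], []]),
  (1890, 79, [7], [[(1, 18)], [], [], [], [], []]),
  (1920, 78, [], [[(619, 0), (673, 1), (1599, 2), (298, 3), (1141, 4), (1074, 5), (300, 6)], [], [], [], [], [],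
    []]),
  (1925, 78, [], [[(1, 4)], []]),
  (1944, 78, [1944], [[], [(108, 0), (1726, 1), (22, 2), (1385, 3), (321, 4), (151, 5), (1942, 6)], [(1926, 0),
    (1652, 1), (846, 2), (842, 3), (12, 4), (4, 5), (1943, 8)], [(167, 0), (536, 1), (1943, 2), (176, 3)], [(3, 0),
    (1943, 1)], [(1, 18)]]),
  (1980, 77, [11], [[(1, 18)], [], [], [], [], [], []]),
  (2000, 77, [], [[(652, 0), (1998, 1), (564, 2), (1979, 3)], [], [], []]),
  (2016, 77, [7], [[(1, 18)], [], [], [], [], []]),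
  (2025, 77, [2025], [[], [(2020, 0), (2024, 1), (1, 3)], [(2017, 0), (4, 3), (621, 4)], [(1, 18)]]),
  (2079, 76, [], [[(1, 9)], [], []]),
  (2100, 76, [7], [[(1, 18)], [], [], [], [], [], []]),
  (2112, 76, [11], [[(1, 18)], [], [], [], [], []]),
  (2160, 75, [2160], [[], [(901, 0), (1455, 1), (407, 2), (1421, 3), (856, 4), (1793, 5), (2027, 6)], [(745, 0),
    (1113, 1), (1229, 2), (84, 3), (41, 4), (113, 5), (13, 6), (1, 8)], [(492, 0), (1377, 1), (1984, 2), (1270, 3),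
    (69, 4), (1, 5)], [(819, 0), (1493, 1), (1188, 2), (1506, 3)], [(1, 3), (2159, 18)], [(1, 18)]]),
  (2200, 75, [11], [[(1, 18)], [], [], []]),
  (2240, 74, [7], [[(1, 18)], [], [], []]),
  (2250, 74, [], [[(1516, 0), (2076, 1), (2040, 2), (1861, 3), (2207, 4), (1825, 5), (2225, 6)], [], [], [], [],
    []]),
  (2268, 74, [7], [[(1, 18)], [], [], [], [], []]),
  (2310, 73, [7], [[(1, 18)], [], [], [], [], []]),
  (2376, 73, [11], [[(1, 18)], [], [], [], [], []]),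
  (2400, 73, [2400], [[], [(1901, 0), (1065, 1), (1027, 2), (366, 3), (156, 4), (153, 5), (1927, 6), (5, 7)], [(654,
    0), (864, 1), (2254, 2), (1506, 3), (524, 4), (1502, 5), (2378, 6), (1, 8)], [(2205, 0), (1476, 1), (1113, 2),
    (170, 3), (38, 4), (2399, 5)], [(625, 0), (2343, 1), (286, 2), (2344, 3)], [(1, 3), (2399, 18)], [(1, 18)]]),
  (2430, 72, [2430], [[], [(1077, 0), (2074, 1), (1564, 2), (1208, 3), (1557, 4), (1333, 5), (2428, 6)], [(57, 0),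
    (121, 1), (2293, 2), (564, 3), (5, 4)], [(299, 0), (2429, 1), (2090, 2), (2084, 3)], [(1, 3), (2429, 18)], [(1,
    18)]]),
  (2464, 72, [], [[(1, 13)], [], []]),
  (2475, 72, [11], [[(1, 18)], [], [], []]),
  (2520, 71, [7], [[(1, 18)], [], [], [], [], [], []]),
  (2592, 71, [2592], [[], [(2032, 0), (1120, 1), (550, 2), (775, 3), (477, 4), (35, 5), (2591, 6)], [(2502, 0),
    (1556, 1), (1374, 2), (1514, 3), (36, 4), (4, 5), (2591, 8)], [(1457, 0), (1622, 1), (5, 2), (1418, 3)], [(3,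
    0), (2591, 1)], [(1, 18)]]),
  (2625, 70, [7], [[(1, 18)], [], [], []]),
  (2640, 70, [11], [[(1, 18)], [], [], [], [], [], []]),
  (2673, 70, [], [[(1, 9)], [], []]),
  (2688, 70, [7], [[(1, 18)], [], [], [], [], []]),
  (2700, 70, [2, 2700], [[], [(2332, 0), (1048, 1), (1740, 2), (196, 3), (964, 4), (1668, 5), (876, 6), (1, 18)],
    [(2394, 0), (2166, 1), (1400, 2), (637, 3), (113, 4), (34, 5)], [(221, 0), (552, 1), (2477, 2), (1064, 3),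
    (1148, 4), (413, 5), (2698, 6)], [(80, 0), (280, 1), (2035, 2), (1025, 3), (2698, 4)], [(1, 3), (2699, 19)],
    [(1, 19)]]),
  (2750, 69, [11], [[(1, 18)], [], []]),
  (2772, 69, [7], [[(1, 18)], [], [], [], [], []]),
  (2800, 69, [7], [[(1, 18)], [], [], []]),
  (2835, 69, [7], [[(1, 18)], [], [], []]),
  (2880, 68, [2880], [[], [(1014, 0), (1986, 1), (1940, 2), (1867, 3), (1943, 4), (391, 5), (2847, 6)], [(1712, 0),
    (1230, 1), (2502, 2), (177, 3), (1691, 4), (2102, 5), (1, 8)], [(2405, 0), (2108, 1), (2097, 2), (2866, 3),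
    (646, 4), (2879, 5)], [(391, 0), (753, 1), (1984, 2), (742, 3)], [(1, 3), (2879, 18)], [(1, 18)]]),
  (2916, 68, [], [[(1010, 0), (542, 1), (72, 2), (1553, 3), (1715, 4), (2427, 5), (2915, 8)], [], [], [], [], []]),
  (2970, 68, [11], [[(1, 18)], [], [], [], [], []]),
  (3000, 67, [], [[(1222, 0), (914, 1), (2182, 2), (1344, 3), (2878, 4), (2227, 5), (25, 6)], [], [], [], [], [],
    []]),
  (3024, 67, [7], [[(1, 18)], [], [], [], [], []]),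
  (3080, 67, [7], [[(1, 18)], [], [], []]),
  (3150, 66, [7], [[(1, 18)], [], [], [], [], []]),
  (3168, 66, [11], [[(1, 18)], [], [], [], [], []]),
  (3200, 66, [128], [[(2700, 0), (50, 1), (2775, 2), (3199, 18)], [], [], []]),
  (3240, 66, [3240], [[], [(879, 0), (745, 1), (1277, 2), (1559, 3), (2816, 4), (756, 5), (3072, 6), (3238, 8)],
    [(2126, 0), (288, 1), (1006, 2), (1490, 3), (2652, 4), (2056, 5), (1, 8)], [(3175, 0), (34, 1), (3159, 2),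
    (1944, 3), (930, 4), (3239, 5)], [(845, 0), (3163, 1), (386, 2), (3164, 3)], [(1, 3), (3239, 18)], [(1, 18)]]),
  (3300, 65, [11], [[(1, 18)], [], [], [], [], [], []]),
  (3360, 65, [7], [[(1, 18)], [], [], [], [], [], []]),
  (3375, 65, [], [[(1544, 0), (3014, 1), (374, 3), (3368, 4)], [], [], []]),
  (3402, 65, [7], [[(1, 18)], [], [], [], []]),
  (3456, 64, [], [[(1937, 0), (2919, 1), (2829, 2), (2806, 3), (555, 4), (980, 5), (3428, 6)], [], [], [], [], []]),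
  (3465, 64, [7], [[(1, 18)], [], [], []]),
  (3500, 64, [7], [[(1, 18)], [], [], []]),
  (3520, 64, [11], [[(1, 18)], [], [], []]),
  (3564, 64, [11], [[(1, 18)], [], [], [], [], []]),
  (3600, 63, [3600], [[], [(3089, 0), (1171, 1), (2755, 2), (2317, 3), (3028, 4), (2061, 5), (3527, 6)], [(2431, 0),
    (2363, 1), (2121, 2), (755, 3), (1372, 4), (2636, 5), (1, 8)], [(2095, 0), (3562, 1), (135, 2), (2088, 3), (282,
    4), (3599, 5)], [(2508, 0), (428, 1), (1455, 2), (423, 3)], [(1, 3), (3599, 18)], [(1, 18)]]),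
  (3645, 63, [], [[(1664, 0), (3254, 1), (404, 3), (3638, 4)], [], [], []]),
  (3696, 63, [7], [[(1, 18)], [], [], [], [], []]),
  (3780, 62, [7], [[(1, 18)], [], [], [], [], [], []]),
  (3850, 62, [7], [[(1, 18)], [], []]),
  (3888, 62, [3888], [[], [(1551, 0), (3421, 1), (1945, 2), (3161, 3), (174, 4), (2791, 5), (1, 6)], [(2958, 0),
    (1484, 1), (2406, 2), (3002, 3), (12, 4), (4, 5), (3887, 8)], [(1033, 0), (3198, 1), (3885, 2), (1058, 3)], [(3,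
    0), (3887, 1)], [(1, 18)]]),
  (3960, 61, [11], [[(1, 18)], [], [], [], [], [], []]),
  (4000, 61, [], [[(2996, 0), (954, 1), (972, 2), (3017, 3)], [], [], []]),
  (4032, 61, [7], [[(1, 18)], [], [], [], [], []]),
  (4050, 61, [4050], [[], [(157, 0), (2178, 1), (358, 2), (3202, 3), (3455, 4), (1232, 5), (13, 6)], [(2303, 0),
    (26, 1), (2722, 2), (2869, 3), (4049, 5)], [(1062, 0), (4048, 1), (2907, 2), (2895, 3)], [(1, 3), (4049, 18)],
    [(1, 18)]]),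
  (4125, 61, [11], [[(1, 18)], [], [], []]),
  (4158, 61, [7], [[(1, 18)], [], [], [], []]),
  (4200, 60, [7], [[(1, 18)], [], [], [], [], [], []]),
  (4224, 60, [11], [[(1, 18)], [], [], [], [], []]),
  (4320, 60, [4320], [[], [(2488, 0), (1224, 1), (4094, 2), (815, 3), (109, 4), (815, 5), (4187, 6)], [(3854, 0),
    (1704, 1), (244, 2), (281, 3), (2409, 4), (3994, 5), (480, 6), (1, 8)], [(2269, 0), (3868, 1), (1305, 2), (2370,
    3), (3870, 4), (650, 5), (4317, 6)], [(4136, 0), (2368, 1), (1139, 2), (2387, 3)], [(1, 3), (4319, 18)], [(1,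
    18)]]),
  (4400, 59, [11], [[(1, 18)], [], [], []]),
  (4455, 59, [11], [[(1, 18)], [], [], []]),
  (4480, 59, [7], [[(1, 18)], [], [], []]),
  (4500, 59, [], [[(2699, 0), (3013, 1), (4019, 2), (3198, 3), (2501, 4), (284, 5), (50, 6)], [], [], [], [], [],
    []]),
  (4536, 59, [7], [[(1, 18)], [], [], [], [], []]),
  (4620, 58, [7], [[(1, 18)], [], [], [], [], [], []]),
  (4725, 58, [7], [[(1, 18)], [], [], []]),
  (4752, 58, [11], [[(1, 18)], [], [], [], [], []]),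
  (4800, 58, [4800], [[], [(3002, 0), (4302, 1), (8, 2), (3843, 3), (915, 4), (2319, 5), (127, 6)], [(182, 0),
    (2808, 1), (578, 2), (16, 3), (2158, 4), (1932, 5), (1, 8)], [(3105, 0), (4176, 1), (2613, 2), (1670, 3), (4238,
    4), (4799, 5)], [(730, 0), (3930, 1), (885, 2), (475, 3), (4798, 4)], [(1, 3), (4799, 18)], [(1, 18)]]),
  (4860, 57, [2, 4860], [[], [(3520, 0), (1324, 1), (4488, 2), (562, 3), (466, 4), (426, 5), (1206, 6), (1, 18)],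
    [(1125, 0), (2891, 1), (2677, 2), (2528, 3), (2549, 4), (2712, 5), (2, 6)], [(1425, 0), (1056, 1), (1233, 2),
    (4460, 3), (4508, 4), (4859, 5)], [(3378, 0), (578, 1), (1965, 2), (573, 3)], [(1, 3), (4859, 19)], [(1, 19)]]),
  (4928, 57, [], [[(1, 13)], [], []]),
  (4950, 57, [11], [[(1, 18)], [], [], [], [], []]),
  (5040, 57, [7], [[(1, 18)], [], [], [], [], [], []]),
  (5103, 57, [], [[(1, 14)], [], []]),
  (5184, 56, [5184], [[], [(1864, 0), (4080, 1), (1598, 2), (167, 3), (637, 4), (3503, 5), (5183, 6)], [(4164, 0),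
    (1394, 1), (1092, 2), (4982, 3), (66, 4), (22, 5), (5183, 8)], [(924, 0), (2839, 1), (5182, 2), (941, 3)], [(3,
    0), (5183, 1)], [(1, 18)]]),
  (5250, 56, [7], [[(1, 18)], [], [], [], [], []]),
  (5280, 56, [11], [[(1, 18)], [], [], [], [], [], []]),
  (5346, 56, [11], [[(1, 18)], [], [], [], []]),
  (5400, 55, [5400], [[], [(4663, 0), (5109, 1), (3449, 2), (2465, 3), (2854, 4), (4070, 5), (2, 6)], [(4688, 0),
    (2022, 1), (1288, 2), (3194, 3), (3390, 4), (2548, 5), (1, 8)], [(5009, 0), (1928, 1), (1025, 2), (2720, 3),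
    (4140, 4), (3, 5)], [(691, 0), (1413, 1), (3724, 2), (1402, 3)], [(1, 3), (5399, 18)], [(1, 18)]]),
  (5500, 55, [], [[(1, 13)], [], []]),
  (5544, 55, [7], [[(1, 18)], [], [], [], [], []]),
  (5600, 55, [], [[(1, 13)], [], []]),
  (5670, 55, [5], [[(1, 18)], [], [], [], []]),
  (5760, 54, [5], [[(1, 18)], [], [], [], [], []]),
  (5775, 54, [], [[(1, 9)], [], []]),
  (5832, 54, [], [[(190, 0), (2252, 1), (5102, 2), (5724, 3), (3336, 4), (2277, 5), (5830, 8)], [], [], [], [], []]),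
  (5940, 54, [5], [[(1, 18)], [], [], [], [], []]),
  (6000, 54, [5], [[(1, 18)], [], [], [], [], []]),
  (6048, 53, [7], [[(1, 18)], [], [], [], [], []]),
  (6075, 53, [], [[(1, 9)], [], []]),
  (6160, 53, [], [[(1, 13)], [], []]),
  (6237, 53, [], [[(1, 9)], [], []])]

theorem okB : chkB D R nu O SOL CL = true := by decide +kernel

theorem okC : cov D.N 6291 (CL.map Prod.fst) = true := by decide +kernel

variable {K : Type} [Group K] [Finite K] {T : TD K D} {A : Subgroup K}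

theorem vec (H : Sp.Hy T R nu) (hb : ¬ Good A) (h1 : A ≠ ⊤) (h0 : A ≠ ⊥) : ∃ v ∈ SOL, Vec T A v :=
  bad H hb (res H hb h1) okB (mem_of_cov H.mass h0 (res H hb h1).1 okC)

end Cfsg.Agent.N2.Sp1.McL
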