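import Cfsg.Agent.N2.Sp1.Fin
import Cfsg.Agent.N2.Sp1.VJ2
import Cfsg.Agent.N2.Sp1.VMcL
import Cfsg.Agent.N2.Sp1.VHS
import Cfsg.Agent.N2.SpK.HS
import Cfsg.Agent.H621.Deg.Split

/-!
# N2 (S3519), the rows of `J2`, `McL`, `HS` (helper45)
-/

set_option autoImplicit false
set_option Elab.async false

namespace Cfsg.Agent.N2.Sp1

open Cfsg Cfsg.Agent.FP3 Cfsg.Agent.TAB.Eng Cfsg.Agent.TAB.Use Cfsg.Agent.N2.SpK

theorem finJ2 : allL (fin Sp.J2.D Sp.J2.R Sp.J2.nu [(2, 7), (3, 3), (5, 2)] ([], [], [])) J2.SOL = true := by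
  decide +kernel

theorem finMcL : allL (fin Sp.McL.D Sp.McL.R Sp.McL.nu [(2, 7), (3, 6), (5, 3)] ([], [], [])) McL.SOL = true := by
  decide +kernel

theorem finHS : allL (fin Sp.HS.D Sp.HS.R Sp.HS.nu [(2, 9), (3, 2), (5, 3)] ([1, 2, 4, 8], [80],
    [[], [(30, 0), (40, 1), (5, 2), (60, 3), (1, 8)], [(11, 0), (75, 1), (71, 2), (78, 3)], [(54, 1), (1, 2)],
      [(1, 21)]])) HS.SOL = true := by
  decide +kernel

variable {K : Type} [Group K] [Finite K] [IsSimpleGroup K]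

theorem row_J2 (hn : ¬ IsMulCommutative K) (h : Spor.IsoJ2 K) : ASRow K := by
  have h1 := H621.Deg.index_le_two (K := K) (.inr (.inr (by simp only [IsSporadicGroup, h, true_or, or_true])))
  obtain ⟨e⟩ := h
  obtain ⟨f⟩ := H379.J2Spec.iso
  obtain ⟨S, h2, -, -, h3, -, h4⟩ := TAB.J2.tab
  exact row_of hn h1 ((inK_of_rat (by decide +kernel) ⟨S, h2, h3, h4⟩).of_equiv (e.trans f)) Sp.J2.okz
    (by decide +kernel) J2.vec (by decide +kernel) finJ2

theorem row_McL (hn : ¬ IsMulCommutative K) (h : Spor.IsoMcL K) : ASRow K := by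
  have h1 := H621.Deg.index_le_two (K := K) (.inr (.inr (by simp only [IsSporadicGroup, h, true_or, or_true])))
  obtain ⟨e⟩ := h
  obtain ⟨f⟩ := H359.CT.McL.iso_K0
  obtain ⟨S, h2, h3, h4, -⟩ := TAB.McL.tabK
  exact row_of hn h1 ((inK_of_rat (by decide +kernel) ⟨S, h2, h3, h4⟩).of_equiv (e.trans f.symm)) Sp.McL.okz
    (by decide +kernel) McL.vec (by decide +kernel) finMcL

theorem row_HS (hn : ¬ IsMulCommutative K) (h : Spor.IsoHS K) : ASRow K :=
  row_of hn (H621.Deg.index_le_two (.inr (.inr (by simp only [IsSporadicGroup, h, true_or, or_true])))) (inK_hs h)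
    Sp.HS.okz (by decide +kernel) HS.vec (by decide +kernel) finHS

end Cfsg.Agent.N2.Sp1
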